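import Cfsg.Agent.MQ.S.Fi22.Loc
import Cfsg.Agent.MQ.S.B.Tri
import Cfsg.Agent.MQ.S.O82.Loc
import Cfsg.Agent.MQ.S.B3.Loc
import Cfsg.Agent.MQ.S.E62G.Mdl
import Cfsg.Agent.BabyU.FusFinal_m3
import Cfsg.Agent.OddHalf.D9.FFour.Out_m3
import Cfsg.Agent.BabyM.TZeroE_m3
import Cfsg.Agent.R01.AlphaFi23
import Cfsg.Agent.H898.TE6Main
import Cfsg.Agent.FastGrp
import Cfsg.Agent.Prune
set_option linter.all false
prune_inst 0x7f00000000000000000000000000000000000000000000000000000000000000000000000000000000000000000000000000000000000000000000000000000000000000000000000000000000000000003fffffffffffffffffffffffffffbeffbdffffffff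
open scoped Cfsg.Agent.FastGrp

-- part: MO/S/E62Three/Flag
section
/-!
# MO, `²E₆(2)`, `p = 3` : the Sylow subgroup has a characteristic flag (helper66)

The letters satisfy the relations of the Sylow subgroup of `Fi22`.

* `flag` : the normaliser normalises `V 0, …, V 3`; `card_eight` : `|N(Q)| ≤ 3 ^ 9 * 8`;
* `card_half` : the argument of Frattini; `nums` : the local numbers.
-/

set_option autoImplicit false
set_option maxRecDepth 100000
set_option maxHeartbeats 200000

namespace Cfsg.Agent.MO.S.E62Three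

open Cfsg Subgroup Cfsg.Agent.MO.S.Pc Cfsg.Agent.MO.L Cfsg.Agent.MO.T Cfsg.Agent.MO.S.F22L
open Cfsg.Agent.MK.S.Pc (ev ev_nil ev_cons ev_append V mem_V V_le V_mono inR inR_mem)
open scoped commutatorElement Pointwise

variable {Γ : Type} [Group Γ] {g : ℕ → Γ}

theorem comm_mem {n r k l : ℕ} (hl : V g n 0 ≤ normalizer (V g n l : Set Γ)) (hr : r ≤ k)
    (H : ∀ j < n, ∀ i < j, r ≤ i → k ≤ j → ⁅g i, g j⁆ ∈ V g n l) {x y : Γ} (hx : x ∈ V g n r) (hy : y ∈ V g n k) :
    ⁅x, y⁆ ∈ V g n l := by
  refine (V_le (H := Cz hl (V g n k)) (fun i hi hn => ⟨mem_V (Nat.zero_le _) hn, fun y hy => ?_⟩) hx).2 y hy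
  rw [← commutatorElement_inv]
  refine inv_mem ((V_le (H := Cz hl {g i}) (fun j hj hn' => ⟨mem_V (Nat.zero_le _) hn', ?_⟩) hy).2 _ rfl)
  rintro _ rfl
  rcases lt_trichotomy i j with h | rfl | h
  · rw [← commutatorElement_inv]
    exact inv_mem (H j hn' i h hi hj)
  · rw [commutatorElement_self]
    exact one_mem _
  · exact H i hn j h (hr.trans hj) (by omega)

theorem comm_of_eq {x y u : Γ} (h : x * y = u * (y * x)) : ⁅x, y⁆ = u := by
  rw [commutatorElement_def, h]
  group

theorem two_chk : ∀ c < 3, ∃ u ∈ [[6], [6, 8], [6, 8, 8]], e3 ((1 :: List.replicate c 2) ++ [3]) (u ++ 3 :: 1 :: List.replicate c 2) = true ∧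
    e3 ((1 :: List.replicate c 2) ++ u) (7 :: (u ++ 1 :: List.replicate c 2)) = true := by decide +kernel

/-- the test for the last two letters -/
noncomputable def e2 (v w : List ℕ) : Bool := e3 (v.map (9 + ·)) (w.map (9 + ·))

theorem four_chk : Pc.chk e2 2 2 2 ⟨[], [], []⟩ = true := by decide +kernel

theorem ev_shift (k : ℕ) (w : List ℕ) : ev g (w.map (k + ·)) = ev (fun i => g (k + i)) w := congrArg List.prod List.map_map

/-- **the argument of Frattini** -/
theorem card_half [Finite Γ] {S : Type} [Group S] {ψ : S →* Γ} (hi : Function.Injective ψ) (h2 : ψ.range.index = 2) {p : ℕ}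
    [Fact p.Prime] (Q : Sylow p Γ) {A : Subgroup S} (hA : A.map ψ = Q) :
    Nat.card (normalizer (A : Set S)) * 2 ≤ Nat.card (normalizer ((Q : Subgroup Γ) : Set Γ)) := by
  have := normal_of_index_eq_two h2
  have h1 := relIndex_sup_right (normalizer ((Q : Subgroup Γ) : Set Γ)) ψ.range
  rw [show normalizer ((Q : Subgroup Γ) : Set Γ) ⊔ ψ.range = ⊤ from Q.normalizer_sup_eq_top' (hA ▸ map_le_range ψ A),
    relIndex_top_right, h2] at h1
  rw [← (ψ.range.subgroupOf (normalizer ((Q : Subgroup Γ) : Set Γ))).card_mul_index, ← relIndex, ← h1,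
    ← card_map_of_injective hi, ← card_map_of_injective (subtype_injective _), subgroupOf_map_subtype]
  exact Nat.mul_le_mul_right _ (card_le_of_le (le_inf (map_le_range _ _) (hA ▸ le_normalizer_map ψ)))

variable [Finite Γ] (he : ∀ v w, e3 v w = true → ev g v = ev g w) (hc : 3 ^ 9 ≤ Nat.card (V g 9 0))
include he hc

/-- **the flag** -/
theorem flag : ∀ k ≤ 3, normalizer (V g 9 0 : Set Γ) ≤ normalizer (V g 9 k : Set Γ) := by
  classical
  have pc := pc_of_chk he c3
  have h3 := norm_comm he c3
  have h7 := norm_low he c3 (k := 5) (l := 7) (by decide) (norm_low he c3 (k := 3) (l := 5) (by decide) h3)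
  have h8 := norm_low he c3 (k := 7) (l := 8) (by decide) h7
  have h1 := norm_flag he c3 hc (k := 0) (a := 7) (l := 8) (by decide) le_rfl h7
    (norm_low he c3 (k := 8) (l := 9) (by decide) h8)
  have h6 : V g 9 0 ≤ normalizer (V g 9 6 : Set Γ) := le_normalizer_iff_commutator_le_right.2
    ((low_of_chk he c3 (k := 6) (l := 7) (by decide)).le.trans (V_mono (by norm_num)))
  have h2 : ∀ a ∈ V g 9 2, ∀ b ∈ V g 9 2, ⁅a, ⁅a, b⁆⁆ ∈ V g 9 8 := fun a ha b hb =>
    comm_mem (le_normalizer.trans h8) (by norm_num) (fun j hj i hi h4 h5 => chk_cm he c3 hi hj ▸ inR_mem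
      ((by decide : ∀ j < 9, ∀ i < j, 2 ≤ i → 6 ≤ j → inR 8 9 ((cert.cm.getD i []).getD j []) = true) j hj i hi h4 h5)) ha
      (comm_mem h6 le_rfl (fun j hj i hi h4 _ => chk_cm he c3 hi hj ▸ inR_mem
        ((by decide : ∀ j < 9, ∀ i < j, 2 ≤ i → inR 6 9 ((cert.cm.getD i []).getD j []) = true) j hj i hi h4)) ha hb)
  have h4 : ∀ n ∈ normalizer (V g 9 0 : Set Γ), (V g 9 2).comap (MulAut.conj n).toMonoidHom ≤ V g 9 2 := fun n hn => by
    generalize hK : (V g 9 2).comap (MulAut.conj n).toMonoidHom = K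
    have k0 : ∀ x, x ∈ K ↔ MulAut.conj n x ∈ V g 9 2 := fun x => hK ▸ Iff.rfl
    have k1 : V g 9 3 ≤ K := fun x hx => (k0 x).2 (V_mono (by norm_num) ((mem_normalizer_iff.1 (h3 hn) x).1 hx))
    have k2 : K ≤ V g 9 1 := fun x hx => (mem_normalizer_iff.1 (h1 hn) x).2 (V_mono (by norm_num) ((k0 x).1 hx))
    refine le_sup_left.trans (pc.eq_succ hc (k := 1) (by norm_num) le_sup_right (sup_le k2 (V_mono one_le_two)) fun h5 => ?_).le
    have h9 : g 1 ∈ ((K ⊔ zpowers (g 2) : Subgroup Γ) : Set Γ) :=
      sup_le le_sup_left (V_succ 2 (mem_sup_right (mem_zpowers _)) (k1.trans le_sup_left)) h5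
    rw [coe_mul_of_right_le_normalizer_left _ _ ((zpowers_le.2 (mem_V (Nat.zero_le 2) (by norm_num))).trans
      (le_normalizer_iff_commutator_le_right.2 ((commutator_mono le_rfl (k2.trans (V_mono zero_le_one))).trans
        (pc.comm_le.trans k1))))] at h9
    obtain ⟨x, hx, t, ht, e⟩ := h9
    obtain ⟨c, h10, h11⟩ := Finset.mem_image.1 (mem_zpowers_iff_mem_range_orderOf.1 (inv_mem ht))
    obtain ⟨u, -, h12, h13⟩ := two_chk c ((Finset.mem_range.1 h10).trans_le
      (orderOf_le_of_pow_eq_one three_pos (chk_pw he c3 (i := 2) (by norm_num))))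
    have h14 : ev g (1 :: List.replicate c 2) = x := by rw [ev_cons, ev_replicate, h11, ← e, mul_inv_cancel_right]
    replace h12 := he _ _ h12
    replace h13 := he _ _ h13
    rw [ev_append, ev_append, ev_cons g 3, ev_cons g 3, ev_nil, mul_one, h14] at h12
    rw [ev_append, ev_cons g 7, ev_append, h14] at h13
    have h15 := h2 _ ((k0 x).1 hx) _ ((k0 _).1 (k1 (mem_V le_rfl (by norm_num))))
    rw [← map_commutatorElement, ← map_commutatorElement, comm_of_eq h12, comm_of_eq h13] at h15
    exact pc.not_mem hc (k := 7) (by norm_num) ((mem_normalizer_iff.1 (h8 hn) _).2 h15)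
  intro k hk
  obtain rfl | rfl | rfl | rfl : k = 0 ∨ k = 1 ∨ k = 2 ∨ k = 3 := by omega
  exacts [le_rfl, h1, fun n hn => mem_normalizer_fintype fun x hx => h4 _ (inv_mem hn) (by simpa only [mul_assoc, _root_.map_inv, _root_.MulEquiv.toMonoidHom_eq_coe, _root_.Subgroup.mem_comap, _root_.MonoidHom.coe_coe, _root_.MulAut.inv_apply, _root_.MulAut.conj_symm_apply, _root_.inv_mul_cancel_left, _root_.inv_mul_cancel, _root_.mul_one, _root_.SetLike.mem_coe] using hx), h3]

theorem card_eight (Q : Sylow 3 Γ) (hQ : (Q : Subgroup Γ) = V g 9 0) (hC : IsPGroup 3 (centralizer ((Q : Subgroup Γ) : Set Γ))) :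
    Nat.card (normalizer ((Q : Subgroup Γ) : Set Γ)) ≤ 3 ^ 9 * 8 :=
  hQ ▸ card_flag (pc_of_chk he c3) hc Q hQ hC (flag he hc)

/-- **the local numbers** -/
theorem nums (hN : Nat.card (normalizer (V g 9 0 : Set Γ)) ≤ Nat.card (V g 9 0) * 4) {α : MulAut Γ}
    (hα : ∀ j < 9, α (g j) = ev g (pwd (RF.getD j []))) : (∀ x ∈ V g 9 0, α x ∈ V g 9 0) ∧
      k0 3 (normalizer (V g 9 0 : Set Γ)) = 18 ∧ fN 3 (normalizer (V g 9 0 : Set Γ)) α = 12 ∧
      g 9 ∈ normalizer (V g 9 0 : Set Γ) ∧ g 10 ∈ normalizer (V g 9 0 : Set Γ) ∧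
      ¬ 2 ∣ (_root_.Subgroup.closure {g 9, g 10}).relIndex (normalizer (V g 9 0 : Set Γ)) := by
  have lc := loc_of_chk he c3 (by decide) hc
  have h1 : ∀ x ∈ V g 9 0, α x ∈ V g 9 0 := fun x hx => V_le (H := (V g 9 0).comap α.toMonoidHom) (fun j _ hj => by
    rw [mem_comap, MulEquiv.coe_toMonoidHom, hα j hj]
    exact pwd_mem ((by decide : ∀ j < 9, (RF.getD j []).length ≤ 9) j hj)) hx
  have h2 : ∀ i < 2, nrm e3 9 [9 + i] (RR.getD i []) = true := fun i hi => List.all_eq_true.1 n3 i (List.mem_range.2 hi)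
  have h3 : ∀ i, ev g [i] = g i := fun _ => mul_one _
  have h4 : g 9 ∈ normalizer (V g 9 0 : Set Γ) := h3 (9 + 0) ▸ nrm_mem he (h2 0 two_pos)
  have h5 : g 10 ∈ normalizer (V g 9 0 : Set Γ) := h3 (9 + 1) ▸ nrm_mem he (h2 1 one_lt_two)
  have h6 : _root_.Subgroup.closure {g 9, g 10} ≤ normalizer (V g 9 0 : Set Γ) := (closure_le _).2 (Set.pair_subset h4 h5)
  obtain ⟨h7, h8⟩ := fN_card_of_chk lc le_normalizer le_rfl hN (mts_of_nrms he c3 n3) (MK.T.stab_of_le h1)
    (MK.T.stab_norm (MK.T.stab_of_le h1)) (M := RF) (fun j hj => by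
      rw [(pc_of_chk he c3).comm_eq, hα j (by omega)]
      exact pwd_mod ((by decide : ∀ j < 3, (RF.getD j []).length ≤ 9) j hj) 3) (prog := [1, 2, 0, 0, 2]) (c := 12)
    (by decide +kernel)
  have h9 : chkM 3 3 RR (idM 3) [1, 2, 0, 0, 2] 4 18 = true := by decide +kernel
  have h10 := eq_of_chk lc le_rfl hN (K := _root_.Subgroup.closure {g 9, g 10} ⊔ V g 9 0) le_sup_right (sup_le h6 le_normalizer)
    (List.forall_mem_cons.2 ⟨⟨_, h3 9 ▸ mem_sup_left (_root_.Subgroup.subset_closure (by simp)), mt_of_nrm he c3 (h2 0 two_pos)⟩,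
      List.forall_mem_singleton.2 ⟨_, h3 10 ▸ mem_sup_left (_root_.Subgroup.subset_closure (by simp)), mt_of_nrm he c3 (h2 1 one_lt_two)⟩⟩) h9
  have h11 : Nat.card (_root_.Subgroup.closure {g 9, g 10} : Subgroup Γ) ≤ 2 ^ (2 - 0) :=
    (card_le_of_le ((closure_le _).2 (Set.pair_subset (mem_V (g := fun i => g (9 + i)) (i := 0) le_rfl two_pos)
      (mem_V (g := fun i => g (9 + i)) (i := 1) zero_le_one one_lt_two)))).trans
      ((pc_of_chk (fun v w h => (ev_shift 9 v).symm.trans ((he _ _ h).trans (ev_shift 9 w))) four_chk).card_le (Nat.zero_le 2))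
  have h12 : Nat.card ((closure {g 9, g 10} ⊔ V g 9 0 : Subgroup Γ) : Set Γ) ≤
      Nat.card (_root_.Subgroup.closure {g 9, g 10} : Subgroup Γ) * Nat.card (V g 9 0) := by
    rw [coe_mul_of_left_le_normalizer_right _ _ h6]
    exact Set.natCard_mul_le
  have h13 := ((closure {g 9, g 10}).subgroupOf (normalizer (V g 9 0 : Set Γ))).card_mul_index
  rw [Nat.card_congr (subgroupOfEquivOfLe h6).toEquiv, h8, ← relIndex] at h13
  rw [h10, SetLike.coe_sort_coe, h8] at h12
  rw [(pc_of_chk he c3).card_zero hc] at h12 h13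
  rw [show Nat.card (closure {g 9, g 10} : Subgroup Γ) = 4 by omega] at h13
  exact ⟨h1, k0_norm lc hN (mts_of_nrms he c3 n3) h9, h7, h4, h5, by omega⟩

end Cfsg.Agent.MO.S.E62Three
end

-- part: MO/S/E62N/Mdl
section
/-!
# MO, the covers of `²E₆(2)` : the model and the lifts of the root involutions (helper14)

* `io` : the matrices of dimension 78; `ar` : the permutations of the arms; `aut_cases` : all automorphisms;
* `Fr φ s` : lifts `s i` of the nodes; `Dl s d` : `d` is conjugate to a node; `Fr.comm`, `Fr.inj`;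
* `lt s D W` : letters; `okW`, `eqv`, `autv`, `dst` : the checks.
-/

set_option autoImplicit false

namespace Cfsg.Agent.MO.S.E62N

open Cfsg Subgroup Cfsg.Lie Cfsg.Agent.MO.T Cfsg.Agent.MO.S.E62C Cfsg.Agent.TwoESix Cfsg.Agent.TwoESix.Cover
open Cfsg.Agent.TwoESix.Lift Cfsg.Agent.TwoESix.Cox10 Cfsg.Agent.TwoESix.SwapNodes Cfsg.Agent.TwoESix.Phi
open Cfsg.Agent.BabyU.OutFree Cfsg.Agent.Lib Cfsg.Agent.Lib.F2MatGroup Cfsg.Agent.H66.TwESixCover Cfsg.Agent.R01.Lifts
open Cfsg.Agent.MK.S.Pc (V inR inR_mem)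
open scoped commutatorElement

instance finHB : Finite HB := BM.HBFinal.finite_HB

/-- the matrices -/
noncomputable def io : HB →* GL (Fin 78) (ZMod 2) := Iso.Gam.subtype.comp (toHom gg_S.1)

theorem io_s0 (i : Fin 10) : io (s0 i) = S0 i := congrArg Subtype.val (toHom_s0 gg_S.1 i)

theorem io_inj : Function.Injective io := by
  obtain ⟨K, _, _, hK⟩ := exists_four
  obtain ⟨e⟩ := Iso.nonempty_equiv K hK
  exact Iso.Gam.subtype_injective.comp
    (toHom_bijective gg_S.1 gg_S.2 (Nat.card_congr e.toEquiv ▸ BM.HBFinal.hcard K hK)).1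

theorem gg0 : GG s0 := ⟨good_s0, closure_s0⟩

/-- the permutations of the arms -/
noncomputable def ar (n : Fin 6) : MulAut HB := (exists_auto gg0 (gg0.P6 n) le_rfl).choose

theorem ar_s0 (n : Fin 6) (i : Fin 10) : ar n (s0 i) = s0 (P6 n i) := (exists_auto gg0 (gg0.P6 n) le_rfl).choose_spec i

theorem io_ar (x : HB) : io (ar 3 x) = Phi * io x * Phi⁻¹ :=
  DFunLike.congr_fun (MonoidHom.eq_of_eqOn_dense (f := io.comp (ar 3).toMonoidHom)
    (g := (MulAut.conj Phi).toMonoidHom.comp io) closure_s0 (by
      rintro _ ⟨i, rfl⟩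
      change io (ar 3 (s0 i)) = Phi * io (s0 i) * Phi⁻¹
      rw [ar_s0, io_s0, io_s0, Phi_inv, Phi_S0]
      rfl)) x

theorem nonsplitY : IsNonsplitDoubleCover Y HB := S2493.nonsplit cvY.perf cvY.card
  ((QuotientGroup.quotientMulEquivOfEq cvY.ker.symm).trans (QuotientGroup.quotientKerEquivOfSurjective pY cvY.surj))

/-- **the automorphisms** -/
theorem aut_cases (δ : MulAut HB) : ∃ x n, δ = MulAut.conj x * ar n := by
  obtain ⟨K, _, _, hK⟩ := exists_four
  obtain ⟨e⟩ := E62C.eqv K hK
  have h1 := SheetMain.index_of_equiv hK e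
  have h2 : Finite (MulAut HB ⧸ (MulAut.conj : HB →* MulAut HB).range) := Quotient.finite _
  have h3 : Function.Injective fun n : Fin 6 => ((ar n)⁻¹ : MulAut HB ⧸ (MulAut.conj : HB →* MulAut HB).range) :=
    fun k l h => by_contra fun h4 => by
      obtain ⟨n, h5, h6⟩ := P6_div k l h4
      obtain ⟨x, hx⟩ := QuotientGroup.eq.1 h
      refine not_inner nonsplitY le_rfl gg0 h5 x⁻¹ fun i => ?_
      obtain ⟨j, rfl⟩ := P6_surj k i
      have h7 := DFunLike.congr_fun hx (ar l (s0 j))
      rw [inv_inv, MulAut.mul_apply, MulAut.inv_apply_self, MulAut.conj_apply, ar_s0, ar_s0] at h7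
      rw [← h6, ← h7]
      group
  obtain ⟨n, hn⟩ := (h3.bijective_of_nat_card_le (by
    rw [Nat.card_fin]
    exact Nat.le_of_dvd (by norm_num) h1)).2 (δ⁻¹ : MulAut HB)
  obtain ⟨x, hx⟩ := QuotientGroup.eq.1 hn.symm
  exact ⟨x, n, by rw [hx]; group⟩

theorem perf (i : Fin 10) : ⁅centralizer ({s0 i} : Set HB), centralizer ({s0 i} : Set HB)⁆ = centralizer ({s0 i} : Set HB) := by
  obtain ⟨K, _, _, hK⟩ := exists_four
  obtain ⟨e, r, he, hgen, h1, -, h2⟩ := GoodInst.exists_good K hK
  let f := MulEquiv.ofBijective _ (toHom_bijective he hgen (BM.HBFinal.hcard K hK))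
  have h3 : (centralizer ({s0 i} : Set HB)).map f.toMonoidHom = centralizer {e i} := by
    ext x
    obtain ⟨x, rfl⟩ := f.surjective x
    refine (mem_map_iff_mem f.injective).trans ?_
    rw [mem_centralizer_singleton_iff, mem_centralizer_singleton_iff, ← show f (s0 i) = e i from toHom_s0 he i, ← map_mul,
      ← map_mul, f.apply_eq_iff_eq]
  refine map_injective (f := f.toMonoidHom) f.injective ?_
  rw [map_commutator, h3]
  exact BabyU.Perf1.perf_root hK ((h2 i).imp fun g hg => ⟨r, h1, hg⟩)

variable {X : Type} [Group X] {φ : X →* HB} {s : Fin 10 → X}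

/-- lifts of the nodes -/
structure Fr (φ : X →* HB) (s : Fin 10 → X) : Prop where
  surj : Function.Surjective φ
  ker : φ.ker = center X
  lift : M10.IsLiftable s
  map : ∀ i, φ (s i) = s0 i

/-- a conjugate of a node -/
def Dl (s : Fin 10 → X) (d : X) : Prop := ∃ g i, d = g * s i * g⁻¹

theorem Dl.conj {d : X} (h : Dl s d) (x : X) : Dl s (x * d * x⁻¹) := by
  obtain ⟨g, i, rfl⟩ := h
  exact ⟨x * g, i, by group⟩

namespace Fr

variable (h : Fr φ s)
include h

theorem map_ev (w : List (Fin 10)) : φ (ev s w) = ev s0 w := by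
  rw [ev_map]
  exact congrArg (ev · w) (funext h.map)

theorem comm0 {x : X} {i : Fin 10} (hx : Commute (φ x) (s0 i)) : Commute x (s i) := by
  have h1 : ⁅(centralizer ({s0 i} : Set HB)).comap φ, (centralizer ({s0 i} : Set HB)).comap φ⁆ ≤ centralizer {s i} :=
    commutator_le.2 fun a ha b hb => mem_centralizer_singleton_iff.2 (by
      have h2 : ∀ a ∈ (centralizer ({s0 i} : Set HB)).comap φ, ∃ z ∈ center X, a * s i = s i * a * z := fun a ha =>
        cen_of h.ker (by
          rw [map_mul, map_mul, h.map]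
          exact mem_centralizer_singleton_iff.1 ha)
      obtain ⟨z, hz, e1⟩ := h2 a ha
      obtain ⟨u, hu, e2⟩ := h2 b hb
      have e3 : ∀ a b z u, z ∈ center X → u ∈ center X → a * s i = s i * a * z → b * s i = s i * b * u →
          a * b * s i = s i * (a * b) * (z * u) := fun a b z u hz _ e1 e2 => by
        rw [mul_assoc, e2, ← mul_assoc, ← mul_assoc, e1, mul_assoc _ z, ← mem_center_iff.1 hz]
        group
      have e4 := e3 b a u z hu hz e2 e1
      rw [mem_center_iff.1 hz u] at e4
      have e5 : (b * a)⁻¹ * s i * (z * u) = s i * (b * a)⁻¹ := by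
        rw [mul_assoc, inv_mul_eq_iff_eq_mul, ← mul_assoc (b * a), e4, mul_assoc _ (z * u), ← mem_center_iff.1 (mul_mem hz hu)]
        group
      have e6 := mem_center_iff.1 (mul_mem hz hu)
      calc ⁅a, b⁆ * s i = a * b * ((b * a)⁻¹ * s i * (z * u)) * (z * u)⁻¹ := by rw [commutatorElement_def]; group
        _ = s i * (a * b * (z * u) * (b * a)⁻¹) * (z * u)⁻¹ := by
          rw [e5, ← mul_assoc, e3 a b z u hz hu e1 e2]
          group
        _ = _ := by
          rw [mul_assoc (a * b), ← e6, commutatorElement_def]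
          group)
  have h2 : φ x ∈ (⁅(centralizer ({s0 i} : Set HB)).comap φ, (centralizer ({s0 i} : Set HB)).comap φ⁆).map φ := by
    rw [map_commutator, map_comap_eq_self_of_surjective h.surj, perf]
    exact mem_centralizer_singleton_iff.2 hx
  obtain ⟨y, h3, h4⟩ := h2
  obtain ⟨z, hz, rfl⟩ := cen_of h.ker h4.symm
  exact (show Commute y (s i) from mem_centralizer_singleton_iff.1 (h1 h3)).mul_left (mem_center_iff.1 hz _).symm

/-- **commutation is exact** -/
theorem comm {x d : X} (hd : Dl s d) (hx : Commute (φ x) (φ d)) : Commute x d := by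
  obtain ⟨g, i, rfl⟩ := hd
  have h1 := h.comm0 (x := g⁻¹ * x * g) (i := i) (by
    have h1 := hx.map (MulAut.conj (φ g)⁻¹)
    simpa [h.map, mul_assoc] using h1)
  simpa only [mul_assoc, _root_.MulAut.conj_apply, _root_.mul_inv_cancel_left, _root_.mul_inv_cancel, _root_.mul_one] using h1.map (MulAut.conj g)

theorem inj {d d' : X} (hd : Dl s d) (hd' : Dl s d') (e : φ d' = φ d) : d' = d := by
  have h1 : ∀ i, IsConj (s 3) (s i) := all_nodes _ (fun i j hij h2 =>
    h2.trans (isConj_iff.2 ⟨_, conj_braid (braid h.lift hij)⟩)) (IsConj.refl _)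
  have h2 : ∀ d, Dl s d → IsConj (s 3) d := fun d ⟨g, i, h2⟩ => (h1 i).trans (isConj_iff.2 ⟨g, h2.symm⟩)
  obtain ⟨c, rfl⟩ := isConj_iff.1 ((h2 d hd).symm.trans (h2 d' hd'))
  rw [(h.comm hd (x := c) (mul_inv_eq_iff_eq_mul.1 (by simpa only [_root_.map_mul, _root_.map_inv] using e))).eq, mul_inv_cancel_right]

end Fr

/-! ### letters -/

/-- the word of a conjugate of a node -/
def dw (c : List (Fin 10) × Fin 10) : List (Fin 10) := c.1 ++ c.2 :: c.1.reverse

/-- the conjugates -/
def dl (s : Fin 10 → X) (D : List (List (Fin 10) × Fin 10)) : List X := D.map fun c => ev s (dw c)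

/-- the letters -/
def lt (s : Fin 10 → X) (D : List (List (Fin 10) × Fin 10)) (W : List (List ℕ)) (i : ℕ) : X := evG (dl s D) (W.getD i [])

variable {D : List (List (Fin 10) × Fin 10)} {W : List (List ℕ)} {C : List ℕ}

theorem Fr.map_dl (h : Fr φ s) : (dl s D).map φ = dl s0 D := by
  rw [dl, List.map_map]
  exact List.map_congr_left fun c _ => h.map_ev _

theorem Fr.map_lt (h : Fr φ s) (i : ℕ) : φ (lt s D W i) = lt s0 D W i := by rw [lt, ← evG_map, h.map_dl, lt]

theorem Fr.dl_cases (h : Fr φ s) (j : ℕ) : getG (dl s D) j = 1 ∨ Dl s (getG (dl s D) j) := by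
  by_cases hj : j < (dl s D).length
  · rw [getG, List.getD_eq_getElem _ _ hj]
    obtain ⟨c, -, hc⟩ := List.mem_map.1 (List.getElem_mem hj)
    exact .inr ⟨ev s c.1, c.2, by rw [← hc, dw, ev_append, ev_cons, ev_reverse h.lift, mul_assoc]⟩
  · exact .inl (List.getD_eq_default _ _ (not_lt.1 hj))

theorem lt_one {i j : ℕ} (h : W.getD i [] = [j]) : lt s D W i = getG (dl s D) j := by rw [lt, h, evG_cons, evG_nil, mul_one]

/-- commutation with a conjugate of a word -/
theorem Fr.comm_lt (h : Fr φ s) {x g : X} {i k : ℕ} (h1 : ∀ j ∈ W.getD i [], W.getD (k + j) [] = [j] ∧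
    Commute (φ x) (φ g * lt s0 D W (k + j) * (φ g)⁻¹)) : Commute x (g * lt s D W i * g⁻¹) := by
  rw [lt]
  generalize W.getD i [] = w at h1
  induction w with
  | nil => simp [evG_nil]
  | cons j w ih =>
    rw [evG_cons, ← conj_mul]
    refine Commute.mul_right ?_ (ih fun j hj => h1 j (List.mem_cons_of_mem _ hj))
    obtain ⟨h2, h3⟩ := h1 j List.mem_cons_self
    rw [← h.map_lt, lt_one h2, ← map_inv, ← map_mul, ← map_mul] at h3
    rcases h.dl_cases (D := D) j with h4 | h4
    · simp [h4]
    · exact h.comm (h4.conj g) h3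

/-- an automorphism which fixes a word -/
theorem Fr.fix_lt (h : Fr φ s) {α : MulAut X} {β : MulAut HB} (hβ : ∀ x, φ (α x) = β (φ x)) (hα : ∀ i, Dl s (α (s i)))
    {i k : ℕ} (h1 : ∀ j ∈ W.getD i [], W.getD (k + j) [] = [j] ∧ β (lt s0 D W (k + j)) = lt s0 D W (k + j)) :
    α (lt s D W i) = lt s D W i := by
  rw [lt]
  generalize W.getD i [] = w at h1
  induction w with
  | nil => exact map_one α
  | cons j w ih =>
    rw [evG_cons, map_mul, ih fun j hj => h1 j (List.mem_cons_of_mem _ hj)]
    obtain ⟨h2, h3⟩ := h1 j List.mem_cons_self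
    rw [← h.map_lt, lt_one h2, ← hβ] at h3
    rcases h.dl_cases (D := D) j with h4 | ⟨g, n, h4⟩
    · rw [h4, map_one]
    · rw [h.inj ⟨g, n, h4⟩ (by rw [h4, map_mul, map_mul, map_inv]; exact (hα n).conj _) h3]

/-! ### the checks -/

/-- `C` codes the letters -/
def Md (y : ℕ → HB) (C : List ℕ) : Prop := ∀ i, Codes 78 (io (y i)) (F2MatGroup.get (F2Mat.one 78) C i)

noncomputable def okW (D : List (List (Fin 10) × Fin 10)) (W : List (List ℕ)) (C : List ℕ) : Bool :=
  L.mapK (fun i => evW 78 SwapData.Sm ((dw (D.getD i ([], 0))).map Fin.val)) (List.range D.length) fun c => W.map (evW 78 c) == C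

theorem codes_ev (w : List (Fin 10)) : Codes 78 (io (ev s0 w)) (evW 78 SwapData.Sm (w.map Fin.val)) := by
  induction w with
  | nil => exact map_one io ▸ Codes.one 78
  | cons i w ih =>
    rw [ev_cons, map_mul, io_s0]
    have h1 : ∀ i : Fin 10, F2MatGroup.get (F2Mat.one 78) SwapData.Sm i = SwapData.Sm.getD i 0 := fun i => by fin_cases i <;> rfl
    exact (h1 i ▸ codes_S0 i).mul ih

theorem md_of_ok (h : okW D W C = true) : Md (lt s0 D W) C := fun i => by
  rw [okW, L.mapK_eq, beq_iff_eq] at h
  have h1 : List.Forall₂ (Codes 78) ((dl s0 D).map io)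
      ((List.range D.length).map fun i => evW 78 SwapData.Sm ((dw (D.getD i ([], 0))).map Fin.val)) := by
    refine List.forall₂_of_length_eq_of_get (by simp [dl]) fun i h1 h2 => ?_
    have h3 : i < D.length := by simpa using h2
    simpa [dl, List.getElem?_eq_getElem h3] using codes_ev (dw D[i])
  have h2 := codes_get (LG := W.map (evG ((dl s0 D).map io))) (L := C) (h ▸ List.forall₂_map_left_iff.2
    (List.forall₂_map_right_iff.2 (List.forall₂_same.2 fun w _ => codes_evW h1 w))) i
  rwa [getG, show (1 : GL (Fin 78) (ZMod 2)) = evG ((dl s0 D).map io) [] from rfl, List.getD_map, evG_map] at h2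

variable {y : ℕ → HB}

theorem Md.ev (h : Md y C) (w : List ℕ) : Codes 78 (io (MK.S.Pc.ev y w)) (evW 78 C w) := by
  induction w with
  | nil => exact map_one io ▸ Codes.one 78
  | cons i w ih =>
    rw [MK.S.Pc.ev_cons, map_mul]
    exact (h i).mul ih

theorem Md.drop (h : Md y C) (k : ℕ) : Md (fun i => y (k + i)) (C.drop k) := fun i => by
  have h1 : ∀ (k : ℕ) (C : List ℕ), F2MatGroup.get (F2Mat.one 78) (C.drop k) i = F2MatGroup.get (F2Mat.one 78) C (i + k) :=
    fun k => by
      induction k with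
      | zero => exact fun _ => rfl
      | succ k ih =>
        rintro (_ | ⟨a, C⟩)
        · rfl
        · exact ih C
  rw [h1, add_comm i]
  exact h _

/-- equal words -/
def eqv (C v w : List ℕ) : Bool := Nat.beq (evW 78 C v) (evW 78 C w)

theorem Md.eq (h : Md y C) (v w : List ℕ) (e : eqv C v w = true) : MK.S.Pc.ev y v = MK.S.Pc.ev y w :=
  io_inj ((h.ev v).eq (h.ev w) e)

theorem Md.code (h : Md y C) {v w : List ℕ} (e : MK.S.Pc.ev y v = MK.S.Pc.ev y w) : evW 78 C v = evW 78 C w :=
  F2Mat.toMat_inj (evW_lt (by norm_num) C v) (evW_lt (by norm_num) C w) ((h.ev v).symm.trans (e ▸ h.ev w))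

theorem Md.ne (h : Md y C) (v w : List ℕ) (e : eqv C v w = false) : MK.S.Pc.ev y v ≠ MK.S.Pc.ev y w := fun h1 => by
  rw [eqv, h.code h1, Nat.beq_refl] at e
  exact Bool.noConfusion e

/-- the automorphism `conj u * ar 3` maps `v` to `w` -/
def autv (C u v w : List ℕ) : Bool :=
  Nat.beq (F2Mat.mul 78 (F2Mat.mul 78 (evW 78 C u) mPhi) (evW 78 C v))
    (F2Mat.mul 78 (evW 78 C w) (F2Mat.mul 78 (evW 78 C u) mPhi))

theorem Md.aut (h : Md y C) (u v w : List ℕ) (e : autv C u v w = true) :
    (MulAut.conj (MK.S.Pc.ev y u) * ar 3) (MK.S.Pc.ev y v) = MK.S.Pc.ev y w := io_inj (by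
  have h1 := (((h.ev u).mul codes_Phi).mul (h.ev v)).eq ((h.ev w).mul ((h.ev u).mul codes_Phi)) e
  rw [MulAut.mul_apply, MulAut.conj_apply, map_mul, map_mul, map_inv, io_ar, ← mul_assoc, ← mul_assoc, h1]
  group)

/-- different words in the first `n` letters -/
noncomputable def dst (C : List ℕ) (n : ℕ) (ws : List (List ℕ)) : Bool := ws.all (inR 0 n) && Pc.inc (ws.map (evW 78 C)) 0

theorem Md.card_ge (h : Md y C) {n : ℕ} {ws : List (List ℕ)} (e : dst C n ws = true) : ws.length ≤ Nat.card (V y n 0) := by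
  classical
  rw [dst, Bool.and_eq_true, List.all_eq_true] at e
  have h1 : (ws.map (MK.S.Pc.ev y)).Nodup :=
    List.pairwise_map.2 ((List.pairwise_map.1 (Pc.inc_spec _ _ e.2).2).imp fun h2 h3 => h2 (h.code h3))
  rw [← List.length_map (MK.S.Pc.ev y), ← List.toFinset_card_of_nodup h1, ← Set.ncard_coe_finset]
  refine Set.ncard_le_ncard (t := (V y n 0 : Set HB)) (fun x hx => ?_)
  obtain ⟨w, hw, rfl⟩ := List.mem_map.1 (List.mem_toFinset.1 hx)
  exact inR_mem (e.1 w hw)

end Cfsg.Agent.MO.S.E62N
end

-- part: MO/S/E62N/Out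
section
/-!
# MO, the covers of `²E₆(2)` of degree two and six : lifts of the nodes, automorphisms (helper14)

* `F2`, `exists_f2`, `outC`; `F6`, `exists_f6`, `noOut`;
* `two_of`, `split_six`, `six_of` : the local numbers from the ones of the simple group.
-/

set_option autoImplicit false

namespace Cfsg.Agent.MO.S.E62N

open Cfsg Subgroup Cfsg.Lie Cfsg.Agent.MO.T Cfsg.Agent.MO.S.E62C Cfsg.Agent.TwoESix Cfsg.Agent.TwoESix.Cover
open Cfsg.Agent.TwoESix.Lift Cfsg.Agent.TwoESix.Cox10 Cfsg.Agent.BabyU.OutFree Cfsg.Agent.H66.TwESixCover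
open Cfsg.Agent.R01.Lifts
open scoped commutatorElement

variable {X : Type} [Group X] {φ : X →* HB} {s : Fin 10 → X}

theorem exists_z (v : Cv 2 φ) : ∃ (ψ : X →* HB) (s : Fin 10 → X) (z : X), Fr ψ s ∧ ZRels s z ∧ _root_.Cfsg.Agent.R01.Lifts.Ext ψ z ∧
    _root_.Subgroup.closure (Set.range s) = ⊤ ∧ Nat.card X = 2 * Nat.card HB := by
  obtain ⟨α, β, h⟩ := iso2 v
  have h1 : ∀ c, pY (α c) = 1 ↔ c = 1 ∨ c = α.symm zY := fun c => by
    have : Fact (Nat.Prime 2) := ⟨Nat.prime_two⟩
    rw [← MonoidHom.mem_ker, ker_pY, α.eq_symm_apply, ← α.map_eq_one_iff (x := c)]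
    refine ⟨fun ⟨k, hk⟩ => ?_, fun h => h.elim (fun e => e ▸ one_mem _) fun e => e ▸ mem_zpowers _⟩
    have h2 : zY ^ (2 : ℤ) = 1 := by rw [zpow_two, zrels_sY.zz]
    rw [← hk]
    rcases Int.even_or_odd' k with ⟨j, rfl | rfl⟩
    · exact .inl (by simp only [zpow_mul, h2, one_zpow])
    · exact .inr (by simp only [zpow_add, zpow_mul, h2, one_zpow, zpow_one, one_mul])
  have h2 := zrels_sY.map α.symm.toMonoidHom
  have h3 : _root_.Subgroup.closure (Set.range fun i => α.symm (sY i)) = ⊤ := by
    rw [show (Set.range fun i => α.symm (sY i)) = α.symm.toMonoidHom '' Set.range sY from Set.range_comp _ _,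
      ← MonoidHom.map_closure, closure_sY, map_top_of_surjective _ α.symm.surjective]
  have h4 := cvY.surj.comp α.surjective
  refine ⟨pY.comp α.toMonoidHom, _, _, ⟨h4, ?_, h2.lift, fun i => ?_⟩, h2,
    ⟨h4, h2.zz, fun e => zY_ne (α.symm.map_eq_one_iff.1 e), h1, fun c => (h2.z_central h3 c).eq⟩, h3, card_of_cv v⟩
  · ext x
    rw [← mem_center_congr α, ← cvY.ker]
    rfl
  · exact (congrArg pY (α.apply_symm_apply _)).trans (pY_sY i)

theorem Fr.perm (h : Fr φ s) (α : MulAut X) : ∃ x n, ∀ y, φ (((MulAut.conj x)⁻¹ * α : MulAut X) y) = ar n (φ y) := by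
  obtain ⟨δ, hδ⟩ := MK.T.exists_ind φ h.surj h.ker α
  obtain ⟨x, n, rfl⟩ := aut_cases δ
  obtain ⟨x, rfl⟩ := h.surj x
  exact ⟨x, n, fun y => by simp only [← hδ, mul_assoc, _root_.MulAut.mul_apply, _root_.MulAut.inv_apply, _root_.MulAut.conj_symm_apply, _root_.map_mul, _root_.map_inv, _root_.MulAut.conj_apply, _root_.inv_mul_cancel, _root_.mul_one, _root_.inv_mul_cancel_left]⟩

theorem fix_cen {α : MulAut X} (h : ∀ z ∈ center X, α z = z) (x : X) : ∀ z ∈ center X, (MulAut.conj x * α) z = z :=
  fun z hz => by rw [MulAut.mul_apply, h z hz, MulAut.conj_apply, mem_center_iff.1 hz, mul_inv_cancel_right]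

/-- a double cover -/
structure F2 (φ : X →* HB) (s : Fin 10 → X) (γ : MulAut X) : Prop extends Fr φ s where
  gam : ∀ i, γ (s i) = s (P6 3 i)
  ind : ∀ x, φ (γ x) = ar 3 (φ x)
  aut : ∀ α : MulAut X, (∀ z ∈ center X, α z = z) → ∃ x, α = MulAut.conj x ∨ α = MulAut.conj x * γ

theorem exists_f2 (v : Cv 2 φ) : ∃ (ψ : X →* HB) (s : Fin 10 → X) (γ : MulAut X), F2 ψ s γ := by
  obtain ⟨ψ, s, z, h1, h2, h3, h4, h5⟩ := exists_z v
  have h6 := fun k => (sig_P6 h2.cs 3 k).trans (sig_zrels h2 _)
  obtain ⟨γ, hγ, -⟩ := exists_mulEquiv h2 ⟨(h2.cs.P6 3).lift, (h2.cs.P6 3).spider, h6 0, h6 1, h6 2⟩ h4 (closure_perm h4 3)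
    h5.ge h5.ge
  have h7 : ∀ α β : MulAut X, (∀ i, α (s i) = β (s i)) → α = β := fun α β h => MulEquiv.ext fun x => DFunLike.congr_fun
    (MonoidHom.eq_of_eqOn_dense (f := α.toMonoidHom) (g := β.toMonoidHom) h4 (Set.forall_mem_range.2 h)) x
  refine ⟨ψ, s, γ, h1, hγ, DFunLike.congr_fun (MonoidHom.eq_of_eqOn_dense (f := ψ.comp γ.toMonoidHom)
    (g := (ar 3).toMonoidHom.comp ψ) h4 (Set.forall_mem_range.2 fun i => ?_)), fun α hα => ?_⟩
  · change ψ (γ (s i)) = ar 3 (ψ (s i))
    rw [hγ, h1.map, h1.map, ar_s0]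
  · obtain ⟨x, n, h8⟩ := h1.perm α
    obtain ⟨h9, h10⟩ := zero_or_three h3 h2 ((MulAut.conj x)⁻¹ * α).toMonoidHom (n := n)
      (fun i => (h8 _).trans (by rw [h1.map, h1.map, ar_s0]))
      (map_inv MulAut.conj x ▸ fix_cen hα x⁻¹ z (h1.ker.le h3.mapz))
    rcases h9 with rfl | rfl
    · exact ⟨x, .inl (inv_mul_eq_one.1 (h7 _ 1 h10)).symm⟩
    · exact ⟨x, .inr (inv_mul_eq_iff_eq_mul.1 (h7 _ γ fun i => (h10 i).trans (hγ i).symm))⟩

theorem outC_HB : OutC 2 HB := fun _ _ _ _ v => by
  obtain ⟨_, _, γ, h⟩ := exists_f2 v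
  exact ⟨γ, h.aut⟩

/-- a sixfold cover -/
structure F6 (φ : X →* HB) (s : Fin 10 → X) : Prop extends Fr φ s where
  ne : ev s spider ^ 10 * ev s spider ^ 10 ≠ 1
  aut : ∀ α : MulAut X, (∀ z ∈ center X, α z = z) → ∃ x, α = MulAut.conj x

theorem Fr.spider (h : Fr φ s) : ev s spider ^ 10 ∈ center X :=
  h.ker.le (by rw [MonoidHom.mem_ker, map_pow, h.map_ev, good_s0.spider])

theorem chk_231 : chk (rep 9 W231 ++ rep 9 W231) [] = true := by decide +kernel

theorem chk_213 : chk (rep 9 W213 ++ rep 9 W213) [] = true := by decide +kernel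

theorem exists_f6 [Finite X] (v : Cv 6 φ) : ∃ (ψ : X →* HB) (s : Fin 10 → X), F6 ψ s := by
  obtain ⟨L, _, q, ρ, hq, hk, hρ, vL⟩ := cv_quot (a := 2) (b := 3) v
  obtain ⟨ψ, t, z, h1, h2, h3, h4, -⟩ := exists_z vL
  have h5 : (ψ.comp q).ker = center X := by
    ext x
    rw [← v.ker, MonoidHom.mem_ker, MonoidHom.mem_ker, ← hρ, ← MonoidHom.mem_ker (f := ρ), vL.ker, ← h1.ker]
    rfl
  have h6 : ∀ c, q c = 1 → c ∈ center X := fun c hc => h5.le (by rw [MonoidHom.mem_ker, MonoidHom.comp_apply, hc, map_one])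
  have h7 : ∀ c, q c = 1 → c ^ 3 = 1 := fun c hc => congrArg Subtype.val (hk ▸ pow_card_eq_one' (x := (⟨c, hc⟩ : q.ker)) :)
  have h8 : ∀ c, q c = 1 → c * c = 1 → c = 1 := fun c hc h => by rw [← h7 c hc, pow_succ, pow_two, h, one_mul]
  choose x hx using fun i => hq (t i)
  have h9 : ∀ i, q (x i ^ 3) = t i := fun i => by rw [map_pow, hx, pow_succ, pow_two, sq h1.lift, one_mul]
  have h10 : ∀ i, x i ^ 3 * x i ^ 3 = 1 := fun i => by
    rw [← (Commute.refl (x i)).mul_pow, h7 _ (by rw [map_mul, hx, sq h1.lift])]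
  generalize hs : (fun i => x i ^ 3) = s
  have h11 : ∀ i, q (s i) = t i := hs ▸ h9
  have h12 : ∀ i, s i * s i = 1 := hs ▸ h10
  have h13 : M10.IsLiftable s := fun i j => by
    have e1 : q ((s i * s j) ^ M10 i j) = 1 := by rw [map_pow, map_mul, h11, h11, h1.lift]
    refine h8 _ e1 ?_
    nth_rewrite 1 [← mul_inv_cancel_right ((s i * s j) ^ M10 i j) (s i)]
    rw [← mem_center_iff.1 (h6 _ e1), ← conj_pow, ← mul_assoc (s i), h12, one_mul,
      show s j * (s i)⁻¹ = (s i * s j)⁻¹ by rw [mul_inv_rev, inv_eq_of_mul_eq_one_left (h12 j)], inv_pow, inv_mul_cancel]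
  have h14 : ∀ w, q (ev s w) = ev t w := fun w => by
    rw [ev_map]
    exact congrArg (ev · w) (funext h11)
  have h15 : _root_.Subgroup.closure (Set.range s) = ⊤ := by
    have e1 : closure (Set.range s) ⊔ center X = ⊤ := eq_top_iff.2 (by
      rw [← comap_top q, ← h4, show Set.range t = q '' Set.range s from funext h11 ▸ Set.range_comp q s,
        ← MonoidHom.map_closure, comap_map_eq]
      exact sup_le_sup_left h6 _)
    have : (closure (Set.range s)).Normal :=
      normalizer_eq_top_iff.1 (eq_top_iff.2 (e1.ge.trans (sup_le le_normalizer (center_le_normalizer _))))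
    exact eq_top_iff.2 (v.perf.ge.trans (Normal.commutator_le_of_self_sup_commutative_eq_top e1 inferInstance))
  have f : Fr (ψ.comp q) s := ⟨h1.surj.comp hq, h5, h13, fun i => (congrArg ψ (h11 i)).trans (h1.map i)⟩
  have h16 : ev s spider ^ 10 * ev s spider ^ 10 ≠ 1 := fun e => by
    have e1 : ∀ w, chk (rep 9 w ++ rep 9 w) [] = true → ev t w ^ 9 = 1 → ev s w ^ 9 = 1 := fun w e1 e2 =>
      h8 _ (by rw [map_pow, h14, e2]) (by simpa only [ev_append, ev_rep, ev_nil] using ev_eq_ev h13 e1)
    have e2 := (Cover.card_le ⟨h13, h8 _ (by rw [map_pow, h14, h2.spider]) e, rfl, e1 _ chk_231 h2.e231,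
      e1 _ chk_213 h2.e213⟩ h15).2
    rw [card_of_cv v, card_HB] at e2
    omega
  refine ⟨_, s, f, h16, fun α hα => ?_⟩
  obtain ⟨y, n, h17⟩ := f.perm α
  have h18 := map_inv MulAut.conj y ▸ fix_cen hα y⁻¹
  generalize hθ : (MulAut.conj y)⁻¹ * α = θ at h17 h18
  have h19 : ∀ c, q.liftOfSurjective hq ⟨q.comp θ.toMonoidHom, fun c hc => (congrArg q (h18 c (h6 c hc))).trans hc⟩ (q c) =
      q (θ c) := fun c => q.liftOfRightInverse_comp_apply _ _ _ c
  obtain ⟨h20, h21⟩ := zero_or_three h3 h2 _ (n := n) (fun i => by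
    rw [← h11, h19]
    exact (h17 _).trans (by rw [f.map, h1.map, ar_s0])) (by
    obtain ⟨c, rfl⟩ := hq z
    rw [h19, h18 c (h5.le h3.mapz)])
  have h22 : ∀ i, θ (s i) = s (P6 n i) := fun i => by
    have e1 : q ((s (P6 n i))⁻¹ * θ (s i)) = 1 := by rw [map_mul, map_inv, ← h19, h11, h11, h21, inv_mul_cancel]
    refine (inv_mul_eq_one.1 (h8 _ e1 ?_)).symm
    rw [← mul_assoc, ← mem_center_iff.1 (h6 _ e1), inv_eq_of_mul_eq_one_left (h12 _), mul_assoc, mul_assoc, ← map_mul, h12,
      map_one, mul_one, h12]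
  rcases h20 with rfl | rfl
  · exact ⟨y, (inv_mul_eq_one.1 (hθ.trans (MulEquiv.ext fun x => DFunLike.congr_fun (MonoidHom.eq_of_eqOn_dense
      (f := θ.toMonoidHom) (g := MonoidHom.id X) h15 (Set.forall_mem_range.2 h22)) x))).symm⟩
  · refine absurd ?_ h16
    have e1 := ev_eq_ev h13 chk_BC
    rw [ev_append, ev_append, ev_rep, ev_rep, ev_reverse h13, show ev s [2, 3, 2, 5, 8] = (ev s [8, 5, 2, 3, 2])⁻¹ from
      ev_reverse h13 [8, 5, 2, 3, 2], inv_pow, mem_center_iff.1 (inv_mem f.spider), mul_inv_cancel_right] at e1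
    have e2 : θ (ev s spider) = ev s spiderBC :=
      (ev_map θ.toMonoidHom s spider).trans ((congrArg (ev · spider) (funext h22)).trans (ev_comp s _ _))
    nth_rewrite 1 [← h18 _ f.spider]
    rw [map_pow, e2, e1, inv_mul_cancel]

theorem noOut_HB : NoOut 6 HB := fun _ _ _ _ v => by
  obtain ⟨_, _, h⟩ := exists_f6 v
  exact h.aut

/-! ### the local numbers -/

variable {p : ℕ} [Fact p.Prime] {D : List (List (Fin 10) × Fin 10)} {W : List (List ℕ)}

theorem Fr.sylow [Finite X] (h : Fr φ s) (Q : Sylow p HB) : ∃ P : Sylow p X, (P : Subgroup X).map φ = Q ∧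
    normalizer ((P : Subgroup X) : Set X) = (normalizer ((Q : Subgroup HB) : Set HB)).comap φ := by
  obtain ⟨P, rfl⟩ := Sylow.mapSurjective_surjective h.surj p Q
  exact ⟨P, rfl, by
    rw [Sylow.coe_mapSurjective, ← map_normalizer φ h.surj, comap_map_eq_self (h.ker.le.trans (center_le_normalizer _))]⟩

/-- **the double covers** -/
theorem two_of (Q : Sylow p HB) {a b k c c' : ℕ} {u : HB} (ha : lt s0 D W a ∈ normalizer ((Q : Subgroup HB) : Set HB))
    (hb : lt s0 D W b ∈ normalizer ((Q : Subgroup HB) : Set HB))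
    (tw : ∀ (X : Type) [Group X] (φ : X →* HB) (s : Fin 10 → X), Fr φ s → Tw φ (lt s D W a) (lt s D W b))
    (hi : ¬ 2 ∣ (_root_.Subgroup.closure {lt s0 D W a, lt s0 D W b}).relIndex (normalizer ((Q : Subgroup HB) : Set HB)))
    (hk : k0 p (normalizer ((Q : Subgroup HB) : Set HB)) = c)
    (hQ : ∀ x ∈ (Q : Subgroup HB), (MulAut.conj u * ar 3) x ∈ (Q : Subgroup HB))
    (hf : fN p (normalizer ((Q : Subgroup HB) : Set HB)) (MulAut.conj u * ar 3) = c')
    (hx : ∀ j ∈ W.getD a [] ++ W.getD b [], W.getD (k + j) [] = [j] ∧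
      (MulAut.conj u * ar 3) (lt s0 D W (k + j)) = lt s0 D W (k + j)) : LK p 2 HB c ∧ LF p 2 HB c' := by
  refine ⟨fun X _ _ _ v _ => ?_, fun X _ _ _ v _ α h1 h2 => ?_⟩
  all_goals
    obtain ⟨ψ, s, γ, h⟩ := exists_f2 v
    obtain ⟨P, h3, h4⟩ := h.sylow Q
    have h5 : (normalizer ((P : Subgroup X) : Set X)).map ψ = _ := h4 ▸ map_comap_eq_self_of_surjective h.surj _
    have ha' : lt s D W a ∈ normalizer ((P : Subgroup X) : Set X) := h4 ▸ mem_comap.2 (h.map_lt a ▸ ha)
    have hb' : lt s D W b ∈ normalizer ((P : Subgroup X) : Set X) := h4 ▸ mem_comap.2 (h.map_lt b ▸ hb)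
    rw [← h.map_lt, ← h.map_lt, ← h5] at hi
  · refine ⟨P, fun l hl => ?_⟩
    rw [Up.kk_of_comm ψ h.ker (center_le_normalizer _) (fun z hz hN => eq_one_of_two v.card hz hi
      ((tw X ψ s h.toFr).pow h.ker (center_le_normalizer _) ha' hb' hz hN)) hl, h5, hk]
  · obtain ⟨x, rfl⟩ : ∃ x, α = MulAut.conj x * γ := (h.aut α h1).imp fun x hx => hx.resolve_left fun e => h2 ⟨x, e⟩
    obtain ⟨u, rfl⟩ := h.surj u
    have h6 : MulAut.conj (u * x⁻¹) * (MulAut.conj x * γ) = MulAut.conj u * γ := by
      rw [map_mul, map_inv, mul_assoc, inv_mul_cancel_left]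
    have h7 : ∀ y, ψ ((MulAut.conj u * γ) y) = (MulAut.conj (ψ u) * ar 3) (ψ y) := fun y => by simp only [h.ind, _root_.MulAut.mul_apply, _root_.MulAut.conj_apply, _root_.map_mul, _root_.Fin.isValue, _root_.map_inv]
    have h8 : ∀ y, (MulAut.conj u * γ) y ∈ (P : Subgroup X) ↔ y ∈ (P : Subgroup X) := MK.T.stab_of_le fun y hy => by
      obtain ⟨n, hn⟩ := P.isPGroup' ⟨y, hy⟩
      refine Up.mem_of_pow P (h4 ▸ mem_comap.2 (h7 y ▸ le_normalizer (hQ _ (h3 ▸ mem_map_of_mem ψ hy)))) (k := n) ?_
      rw [← map_pow, show y ^ p ^ n = 1 from congrArg Subtype.val hn, map_one]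
      exact one_mem _
    have h9 : ∀ i, Dl s ((MulAut.conj u * γ) (s i)) := fun i => ⟨u, _, by rw [MulAut.mul_apply, h.gam]; rfl⟩
    refine ⟨P, u * x⁻¹, h6 ▸ h8, fun l hl => ?_⟩
    rw [fB_of_tw h.ker v.card (tw X ψ s h.toFr) (center_le_normalizer _) ha' hb' hi (h6 ▸ h7)
      (h6 ▸ fun y => (MK.T.stab_norm h8 y).2) (h6 ▸ h.fix_lt h7 h9 fun j hj => hx j (List.mem_append_left _ hj))
      (h6 ▸ h.fix_lt h7 h9 fun j hj => hx j (List.mem_append_right _ hj)) (fix_cen h1 _) hl, h5, hf]

theorem split_six [Finite X] (h : Fr φ s) (hc : Nat.card (center X) = 6) {N : Subgroup HB} {a b a' b' : X} (ha : φ a ∈ N)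
    (hb : φ b ∈ N) (ha' : φ a' ∈ N) (hb' : φ b' ∈ N) (tw : Tw φ a b) (tw' : Tw φ a' b')
    (hi : ¬ 2 ∣ (_root_.Subgroup.closure {φ a, φ b}).relIndex N) (hi' : ¬ 3 ∣ (closure {φ a', φ b'}).relIndex N) :
    ∀ z ∈ center X, z ∈ ⁅N.comap φ, N.comap φ⁆ → z = 1 := fun z hz hN => by
  have hZ : center X ≤ N.comap φ := h.ker ▸ ker_le_comap φ N
  have h1 := orderOf_dvd_of_pow_eq_one (tw.pow h.ker hZ ha hb hz hN)
  have h2 := orderOf_dvd_of_pow_eq_one (tw'.pow h.ker hZ ha' hb' hz hN)
  rw [map_comap_eq_self_of_surjective h.surj] at h1 h2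
  have h3 : orderOf z ∣ 2 * 3 := (hc ▸ (center X).orderOf_dvd_natCard hz : orderOf z ∣ 6)
  exact orderOf_eq_one_iff.1 (Nat.eq_one_of_dvd_coprimes (Nat.prime_three.coprime_iff_not_dvd.2 hi')
    ((Nat.prime_two.coprime_iff_not_dvd.2 (nd_of_dvd hi h1)).symm.dvd_of_dvd_mul_left h3) h2)

/-- **the sixfold covers** -/
theorem six_of (Q : Sylow p HB) {a b a' b' c : ℕ} (ha : lt s0 D W a ∈ normalizer ((Q : Subgroup HB) : Set HB))
    (hb : lt s0 D W b ∈ normalizer ((Q : Subgroup HB) : Set HB)) (ha' : lt s0 D W a' ∈ normalizer ((Q : Subgroup HB) : Set HB))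
    (hb' : lt s0 D W b' ∈ normalizer ((Q : Subgroup HB) : Set HB))
    (tw : ∀ (X : Type) [Group X] (φ : X →* HB) (s : Fin 10 → X), Fr φ s →
      Tw φ (lt s D W a) (lt s D W b) ∧ Tw φ (lt s D W a') (lt s D W b'))
    (hi : ¬ 2 ∣ (_root_.Subgroup.closure {lt s0 D W a, lt s0 D W b}).relIndex (normalizer ((Q : Subgroup HB) : Set HB)))
    (hi' : ¬ 3 ∣ (_root_.Subgroup.closure {lt s0 D W a', lt s0 D W b'}).relIndex (normalizer ((Q : Subgroup HB) : Set HB)))
    (hk : k0 p (normalizer ((Q : Subgroup HB) : Set HB)) = c) : LK p 6 HB c := fun X _ _ _ v _ => by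
  obtain ⟨ψ, s, h⟩ := exists_f6 v
  obtain ⟨P, -, h4⟩ := h.sylow Q
  refine ⟨P, fun l hl => ?_⟩
  rw [← h.map_lt] at ha hb ha' hb'
  rw [← h.map_lt, ← h.map_lt] at hi hi'
  rw [Up.kk_of_comm ψ h.ker (center_le_normalizer _) (h4 ▸ split_six h.toFr v.card ha hb ha' hb' (tw X ψ s h.toFr).1
    (tw X ψ s h.toFr).2 hi hi') hl, h4, map_comap_eq_self_of_surjective h.surj, hk]

end Cfsg.Agent.MO.S.E62N
end

-- part: MO/S/E62Three/Emb
section
/-!
# MO, `²E₆(2)`, `p = 3` : the subgroup `Fi22` (helper66)

* `em` : the embedding of `Fi22`, `g3` : the letters, `he`, `hc`, `syl`;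
* `two_of_card` : the local numbers of the double cover from the order of the normaliser.
-/

set_option autoImplicit false
set_option maxRecDepth 100000
set_option maxHeartbeats 200000

namespace Cfsg.Agent.MO.S.E62Three

open Cfsg Subgroup Cfsg.Agent.MO.S.Pc Cfsg.Agent.MO.L Cfsg.Agent.MO.T Cfsg.Agent.MO.S.E62C Cfsg.Agent.MO.S.E62N
open Cfsg.Agent.TwoESix Cfsg.Agent.TwoESix.Cover Cfsg.Agent.TwoESix.Lift Cfsg.Agent.BabyU.OutFree
open Cfsg.Agent.MO.S.F22L (LW ex e3 c3 RF md Ok ok_LW f3)
open Cfsg.Agent.MK.S.Pc (ev ev_nil ev_cons V)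
open Cfsg.Agent.H123.Cls.FiDat (gn el el_cons)
open Cfsg.Agent.H833.Flip (flipA flipA_gen)

/-- the nodes -/
def nd : Spor.Fi22.Gen → Fin 10
  | .a => 6
  | .b => 5
  | .c => 4
  | .d => 3
  | .e => 7
  | .f => 8
  | .g => 9
  | .h => 2
  | .i => 1

theorem nd_lab (x y : Spor.Fi22.Gen) : Spor.coxLabel Spor.Fi22.edges x y = Cox10.lab (nd x) (nd y) := by
  cases x <;> cases y <;> decide +kernel

theorem rel_chk : Cox10.chk (Cox10.rep 10 [3, 4, 5, 3, 7, 8, 3, 2, 1]) ([1, 2, 3] ++ Cox10.rep 10 Cox10.spider ++ [1, 2, 3].reverse) = true ∧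
    Cox10.chk (Cox10.rep 9 [6, 5, 4, 3, 7, 8, 2]) (Cox10.rep 9 Cox10.W132) = true ∧
    Cox10.chk (Cox10.rep 9 [5, 4, 3, 7, 8, 9, 2]) (Cox10.rep 9 Cox10.W123) = true := by decide +kernel

theorem rels : R01.AlphaGeneric.ZRels (fun x => s0 (nd x)) 1 where
  cox x y := nd_lab x y ▸ good_s0.lift _ _
  spider := by
    have h := Cox10.ev_eq_ev good_s0.lift rel_chk.1
    rw [Cox10.ev_append, Cox10.ev_append, Cox10.ev_rep, Cox10.ev_rep, Cox10.ev_reverse good_s0.lift, good_s0.spider, mul_one,
      mul_inv_cancel] at h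
    simpa only [Cox10.ev_cons, Cox10.ev_nil, mul_one, mul_assoc, nd] using h
  e7a := by
    simpa only [Cox10.ev_cons, Cox10.ev_nil, mul_one, mul_assoc, nd] using
      (Cox10.pow9_eq good_s0.lift rel_chk.2.1).trans good_s0.zrels.e132
  e7b := by
    simpa only [Cox10.ev_cons, Cox10.ev_nil, mul_one, mul_assoc, nd] using
      (Cox10.pow9_eq good_s0.lift rel_chk.2.2).trans good_s0.zrels.e123

/-- the embedding -/
noncomputable def em : Spor.Fi22 →* HB := R01.AlphaGeneric.toHom rels

theorem em_gen (x : Spor.Fi22.Gen) : em (PresentedGroup.of x) = s0 (nd x) := R01.AlphaGeneric.toHom_gen rels x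

theorem em_el : ∀ w, em (el w) = Cox10.ev s0 (w.map fun a => nd (gn a))
  | [] => map_one em
  | a :: w => by rw [el_cons, map_mul, em_el w, em_gen, List.map_cons, Cox10.ev_cons]

theorem em_flip (x : Spor.Fi22) : em (flipA x) = ar 3 (em x) :=
  DFunLike.congr_fun (PresentedGroup.ext (φ := em.comp flipA.toMonoidHom) (ψ := (ar 3).toMonoidHom.comp em) fun x => by
    change em (flipA (PresentedGroup.of x)) = ar 3 (em (PresentedGroup.of x))
    rw [em_gen, ar_s0, show flipA (PresentedGroup.of x) = PresentedGroup.of _ from flipA_gen x, em_gen]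
    cases x <;> rfl) x

theorem em_inj : Function.Injective em :=
  (MonoidHom.ker_eq_bot_iff _).1 ((Fischer.Fi22Order.isSimple.eq_bot_or_eq_top_of_normal _ inferInstance).resolve_right
    fun h => by
      have h1 := all_nodes (fun i => s0 i = 1) (fun i j hij h2 => Eq.symm (by
        simpa [h2, Cox10.sq good_s0.lift] using (braid good_s0.lift hij).symm))
        ((em_gen .d).symm.trans (h.ge (mem_top _)))
      have h2 := card_le_of_le (closure_s0.ge.trans ((closure_le (K := ⊥)).2 (Set.range_subset_iff.2 h1)))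
      rw [card_top, card_bot, card_HB] at h2
      omega)

/-- the letters -/
noncomputable def g3 (a : ℕ) : HB := em (F22L.y el a)

variable {Γ : Type} [Group Γ]

theorem map_ev {S : Type} [Group S] (ψ : S →* Γ) (g : ℕ → S) (w : List ℕ) : ev (fun a => ψ (g a)) w = ψ (ev g w) := by
  rw [ev, ev, map_list_prod, List.map_map]
  rfl

theorem map_V {S : Type} [Group S] (ψ : S →* Γ) (g : ℕ → S) (n k : ℕ) : (V g n k).map ψ = V (fun a => ψ (g a)) n k := by
  rw [V, V, MonoidHom.map_closure, Set.image_image]

theorem he3 (v w : List ℕ) (h : e3 v w = true) : ev g3 v = ev g3 w :=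
  (map_ev em _ v).trans ((congrArg em (md.he v w h)).trans (map_ev em _ w).symm)

theorem hc3 : 3 ^ 9 ≤ Nat.card (V g3 9 0) := by
  have : Finite Spor.Fi22 := Finite.of_injective _ em_inj
  rw [show V g3 9 0 = _ from (map_V em _ 9 0).symm, card_map_of_injective em_inj]
  exact md.hc

theorem two_chk' : ∀ j ∈ [9, 10], Cox10.chk (((LW.getD j []).map fun a => nd (gn a)).map (P6 3)) ((LW.getD j []).map fun a => nd (gn a)) = true ∧
    Cox10.chk (((LW.getD 9 []).map fun a => nd (gn a)) ++ (LW.getD 10 []).map fun a => nd (gn a))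
      (((LW.getD 10 []).map fun a => nd (gn a)) ++ (LW.getD 9 []).map fun a => nd (gn a)) = true := by decide +kernel

/-- **the double covers** -/
theorem two_of_card (hN : Nat.card (normalizer (V g3 9 0 : Set HB)) ≤ Nat.card (V g3 9 0) * 4) :
    LK 3 2 HB 18 ∧ LF 3 2 HB 12 := by
  obtain ⟨Q, hQ⟩ := (pc_of_chk he3 c3).sylow hc3 (o := 3888252790924902400) (card_HB.trans (by norm_num)) (by norm_num)
  obtain ⟨h1, hk, hf, ha, hb, hi⟩ := nums he3 hc3 hN (α := ar 3) fun j hj =>
    (em_flip _).symm.trans ((congrArg em (md.al_y hj)).trans (map_ev em _ _).symm)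
  rw [← hQ] at h1 hk hf ha hb hi
  have h2 : ∀ j, g3 j = Cox10.ev s0 ((LW.getD j []).map fun a => nd (gn a)) := fun j => em_el _
  have h0 := two_chk' 9 (by simp)
  have h0' := (two_chk' 10 (by simp)).1
  rw [h2] at ha hb
  rw [h2, h2] at hi
  generalize ((LW.getD 9 []).map fun a => nd (gn a)) = u at ha hi h0
  generalize ((LW.getD 10 []).map fun a => nd (gn a)) = w at hb hi h0 h0'
  refine ⟨fun X _ _ _ v _ => ?_, fun X _ _ _ v _ α h1' h2' => ?_⟩
  all_goals
    obtain ⟨ψ, s, γ, h⟩ := exists_f2 v
    obtain ⟨P, h3, h4⟩ := h.sylow Q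
    have h5 : (normalizer ((P : Subgroup X) : Set X)).map ψ = _ := h4 ▸ map_comap_eq_self_of_surjective h.surj _
    have ha' : Cox10.ev s u ∈ normalizer ((P : Subgroup X) : Set X) := h4 ▸ mem_comap.2 (h.map_ev u ▸ ha)
    have hb' : Cox10.ev s w ∈ normalizer ((P : Subgroup X) : Set X) := h4 ▸ mem_comap.2 (h.map_ev w ▸ hb)
    have tw : Tw ψ (Cox10.ev s u) (Cox10.ev s w) := tw_of_commute (by
      simpa only [Cox10.ev_append, commute_iff_eq] using Cox10.ev_eq_ev h.lift h0.2)
    rw [← h.map_ev, ← h.map_ev, ← h5] at hi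
  · refine ⟨P, fun l hl => ?_⟩
    rw [Up.kk_of_comm ψ h.ker (center_le_normalizer _) (fun z hz hN => eq_one_of_two v.card hz hi
      (tw.pow h.ker (center_le_normalizer _) ha' hb' hz hN)) hl, h5, hk]
  · obtain ⟨x, rfl⟩ : ∃ x, α = MulAut.conj x * γ := (h.aut α h1').imp fun x hx => hx.resolve_left fun e => h2' ⟨x, e⟩
    have h6 : MulAut.conj x⁻¹ * (MulAut.conj x * γ) = γ := by rw [map_inv, inv_mul_cancel_left]
    have h8 : ∀ y, γ y ∈ (P : Subgroup X) ↔ y ∈ (P : Subgroup X) := MK.T.stab_of_le fun y hy => by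
      obtain ⟨n, hn⟩ := P.isPGroup' ⟨y, hy⟩
      refine Up.mem_of_pow P (h4 ▸ mem_comap.2 (h.ind y ▸ le_normalizer (h1 _ (h3 ▸ mem_map_of_mem ψ hy)))) (k := n) ?_
      rw [← map_pow, show y ^ 3 ^ n = 1 from congrArg Subtype.val hn, map_one]
      exact one_mem _
    have h9 : ∀ t, Cox10.chk (t.map (P6 3)) t = true → γ (Cox10.ev s t) = Cox10.ev s t := fun t e =>
      (Cox10.ev_map γ.toMonoidHom s t).trans ((congrArg (Cox10.ev · t) (funext h.gam)).trans
        ((Cox10.ev_comp s _ t).trans (Cox10.ev_eq_ev h.lift e)))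
    refine ⟨P, x⁻¹, h6.symm ▸ h8, fun l hl => ?_⟩
    rw [fB_of_tw h.ker v.card tw (center_le_normalizer _) ha' hb' hi (h6.symm ▸ h.ind)
      (h6.symm ▸ fun y => (MK.T.stab_norm h8 y).2) (h6.symm ▸ h9 u h0.1) (h6.symm ▸ h9 w h0') (fix_cen h1' _) hl, h5, hf]

end Cfsg.Agent.MO.S.E62Three
end

-- part: MO/S/E62N/FiveD
section
/-!
# MO, the covers of `²E₆(2)`, `p = 5` : the data and the checks (helper14)

Letters : `0, 1` generate the Sylow subgroup `Q`; `2` has order three and centralises `Q`; `3, 4, 5` normalise `Q`;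
`6` gives the automorphism; `7, …, 11` is a polycyclic sequence of `⟨3, 4⟩`; `12, 13` generate a Sylow subgroup which
centralises `14`; `15 + j` is the involution `j`.
-/

set_option autoImplicit false

namespace Cfsg.Agent.MO.S.E62N

open Cfsg.Agent.MO.L Cfsg.Agent.TwoESix.Cox10 Cfsg.Agent.H66.TwESixCover

def dD : List (List (Fin 10) × Fin 10) :=
  [([], 0),
    ([], 1),
    ([], 2),
    ([], 3),
    ([], 4),
    ([], 5),
    ([], 6),
    ([], 7),
    ([], 8),
    ([], 9),
    ([3, 7, 8, 9, 2, 3, 7, 8, 1, 2, 3, 7, 4, 3, 2, 1], 0),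
    ([5, 4, 3, 7, 2, 3, 4, 1, 2, 3, 7, 5, 4, 3, 2, 1], 0),
    ([8, 4, 3, 7, 2, 3, 4, 1, 2, 3, 7, 5, 4, 3, 2, 1], 0),
    ([9, 8, 4, 3, 7, 2, 3, 4, 1, 2, 3, 7, 6, 5, 4, 3, 2, 1], 0),
    ([4, 3, 7, 8, 3, 7, 4, 5, 6, 3, 4, 5, 2, 3, 4, 1, 2, 3, 7, 4, 5, 6, 3, 4, 5, 2, 3, 4, 0, 1, 2, 3, 7, 8, 9, 8, 7,
      3, 4, 2, 3, 7, 8, 5, 4, 1, 2, 3, 7, 6, 5, 4, 3, 2, 1], 0),
    ([4, 2, 3, 7, 8, 3, 7, 4, 5, 6, 3, 4, 5, 2, 3, 4, 0, 1, 2, 3, 7, 5, 6, 3, 4, 5, 2, 3, 4, 0, 1, 2, 3, 7, 8, 9, 8,
      7, 3, 4, 2, 3, 7, 8, 5, 4, 1, 2, 3, 7, 6, 5, 4, 3, 2, 1], 0),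
    ([4, 3, 7, 8, 9, 6, 5, 3, 4, 2, 3, 7, 8, 5, 2, 3, 4, 1, 2, 3, 7, 6, 3, 4, 5, 1, 2, 3, 4, 0, 1, 2, 3, 7, 8, 9, 8,
      7, 3, 4, 2, 3, 7, 8, 5, 3, 4, 1, 2, 3, 7, 6, 5, 4, 3, 2, 1], 0),
    ([9, 8, 3, 7, 4, 5, 3, 4, 2, 3, 7, 8, 5, 3, 4, 1, 2, 3, 7, 5, 6, 4, 5, 1, 2, 3, 4, 0, 1, 2, 3, 7, 8, 9, 8, 7, 6,
      4, 5, 3, 4, 1, 2, 3, 7, 8, 5, 3, 4, 1, 2, 3, 7, 6, 5, 4, 3, 2, 1], 0),
    ([6, 5, 4, 3, 7, 8, 9, 4, 5, 2, 3, 4, 1, 2, 3, 7, 8, 7, 5, 3, 4, 2, 3, 7, 6, 5, 4, 3, 2, 1], 0),
    ([6, 5, 3, 4, 2, 3, 7, 8, 9, 6, 5, 2, 3, 4, 1, 2, 3, 7, 8, 4, 5, 3, 4, 2, 3, 7, 6, 5, 4, 3, 2, 1], 0),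
    ([6, 5, 4, 0, 1, 2, 3, 7, 8, 9, 5, 2, 3, 4, 1, 2, 3, 7, 8, 7, 5, 3, 4, 2, 3, 7, 6, 5, 4, 3, 2, 1], 0),
    ([1, 2, 3, 4, 0, 1, 2, 3, 7, 8, 9, 6, 5, 4, 3, 7, 8, 5, 2, 3, 4, 1, 2, 3, 7, 6, 5, 4, 3, 2, 1], 0),
    ([0, 1, 2, 3, 7, 8, 9, 6, 5, 4, 0, 1, 2, 3, 7, 8, 4, 5, 2, 3, 4, 1, 2, 3, 7, 6, 5, 4, 3, 2, 1], 0)]

def dW : List (List ℕ) :=
  [[0, 1, 2, 3],
    [5, 11, 8, 9],
    [14, 15, 16, 17],
    [0, 2, 1],
    [10, 3, 2, 1, 0, 5, 10, 3, 2, 1, 11, 5, 10, 3, 2, 8, 11, 5, 10, 3, 9, 8, 11, 5, 10],
    [18, 19, 20],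
    [11, 12, 13],
    [10, 3, 2, 1, 0, 5, 10, 3, 2, 1, 11, 5, 10, 3, 2, 8, 11, 5, 10, 3, 9, 8, 11, 5, 10],
    [0, 2, 1],
    [0, 2, 1, 0, 2, 1],
    [0, 2, 1, 11, 8, 5],
    [0, 2, 1, 11, 8, 5, 0, 2, 1, 11, 8, 5],
    [2, 3, 4, 21],
    [2, 3, 2, 7, 3, 2, 22, 4, 21, 3, 7, 22],
    [5, 4, 3, 7, 8, 2, 3, 7, 4, 5, 3, 4, 2, 3, 7, 8, 5, 4, 3, 7, 2, 3, 4, 1, 2, 3, 7, 5, 4, 3, 2, 1],
    [0],
    [1],
    [2],
    [3],
    [4],
    [5],
    [6],
    [7],
    [8],
    [9],
    [10],
    [11]]

def dC : List ℕ :=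
  [0x800008a0000000000023000033e0000810073ac820028a0282800000023040073e0505810073ac20080002a2a00000000040120005454900c0383208822028aa00000000241924485154bc7f0383080a00028828000000001014000510500000000082a080a882a00000022105432b5105e972398f20082002a2880000000040126025451190e7021820828a02a8800000023041073e0551810073ac800800a002a200000023001023e0054c902324e0a022202a2880000000014044405451000000008a222a8aa288000000011444551545122731b41008222002a880000000201864480551bc7f0383082a880a882800000022105532b5105b97ebe4c00208880000200000022004133a0000fc7fece68a22a282a28800000001144545054513b7dad20a28a0aaa802200000081c5bc175f80e6d33391b28028002288a0000000050050004511500c87c328a2aa8208a200000022514577a4114fc7fece6080a00020aa80000000010160004155808c0b002a028a0a00800000000054051414010190eb66182880aa820aa0000008185b8175ac1f6d3bbf5b2a082200a208000000005412642144100c4e66b08a8aa82aa0a00000022115177a5541fc7fece6a02a0020a2aa00000023405422e1455ed731b65802000a80002a5c9cea800002000000880203a28020088800008dcdc022008202a000039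7e7029802080200002f1fc0e0e008202000003a7d0029a02888aaa2a2e4f8e1a48222aaaa2a8955f28e9000080000002022239000002022000000a8e563a028a082a288c8f52d2e80a022aa8a8293a3dea802008880000f233ad24000002200008024ee63a028288aa288acedf4a80000000000019cca02b008222a02a8a144e8ea2008202000003c480d22880a882a0aaaa77867048088020a82224398f40aa28a280a2083edff4aa202820a82aa395e1542800088a00000f3cc1e2ea8a0aa228821675eb60800008a800020000008182a2b9fa2a8f86c11f2200a0002a02800000020c0bc220fc0fac73038ca0a8aa828aa2a682802482a0a88a2a839e4ad20,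
    0x86eaed555100d5d200e9d4493d32e4796b3fff1deb841e7baeed1f63fa20ef6097403c10f88635abdf402231bf1ed66028492602a5bf9170595c0aa626c94dbf1ec01876b6ff1856b32d1ff1e5cadc8b58998b9f22d308135c69ebe4fd12d85e3e8f37e2eaecf1417d697e17035404ab25b8d0c45446da036d7ba193f09fc3cff604621feb478aa203f0c80ab3c305ec440099b6d01bb90bb381b5e500b2c080088b1290a003b71e01996d767dd922f1e8bacd75fb1ae23b70e7dc5876701d3b7de9ea2c8080c38e81529210a1125c9a713dd6b80efabf80619138610b4c128f02e03e9f3f03bc846fe4c4e300cc4c8f808020b65a6922248da48b4caa8f0f6c0434601c21010479bb43939f43ad712b5a959402f594911282b79c4bd4c7db4d5ee9f3f6e90d0820ac58482002165c3080d171c0940584549cb24089894980801525c1c5011f1d110a08c64889880804f8280a0241171310109270c0a800156c4c428e814c9696a57141e20a343c3b521a4454668c36dbfea51760ac7fdfe05631cc845d06613b6d002b78368ec6f50da8e301b8a0803a538a42af82c54d4b33cb3a77a2ec8856216dcbfd64dfb0c69a570a93f4c7bd622d85e2d3c1288a4c2adff7cee2ecf54155693e0a1604b7c9864d5de928f3e79efbf2a0e9dad893a7dd03986c7a3cd3fed4017661de9be3df527a1686123b7ac80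fb5da046f0de55ea13e5b11974fa7e1c3b7ac83a0f9a27e18680669fd95d7469b9d3189b7610ddba063b61a384801eb21a2530f85f9923a3fcb31d71a65e049240c0cc89c086b10400820000000b0248d412812804340c09222340101800a30103650129650cc30080cc0cd2d0a20c614e010d8f214d92f768cc380a0cc0e4c86d723b677af4a54cffb5469c7454428d0acf94b6b5f3961a039b7e653f93e6e74c4669d84f73e939ad848e32005ae878b446e176644e8f32cc37568979d33bca63deeceaa9b81d34f2eec4d555554b7632c55f0c18135c0ce1c0e802014e4a85d21620947d097afee5aabff3a1678fd3258bf38b8aa6a0bfdffb9b83e5115581d9,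
    0x9b83928a20a254000031570b4734c14e242003379d5ef45b2f1c09228f6de3e4a24828980cc626fb158aa5baf92fe174d7350b0737414e0a0080d941f959a82aaec96aa39b0098d1c03c40000008a5a362f738f98004825e5c0e4628b28b3a53986630c4044acf1aea7fea1faa830ef5aa9b2c5d27adca2fc33073541299666e224a288e88808422633274a29bafb3f61c565150d0514424440424449c008089c1c2d282a124865b20ae6e6ebbc5b082dcb7a5f30d93c04825e6e3ec6288248908e266400c404402c1441091238058824e0eea629cce49ee7ab568a8a6b6547197b05451cc3f5701108b8841808884c682803524c75d22af6a7cfc954a2b48d918a0c9abeb76fb20d9fedd4911e0eecb50800b938802de68375aa7e6b9584e6e6cddfd5e2acda428b044480a0356722170731373d004814c2cb2c0024a4b020020006104000717130a48941bdd26e8971ff80802d67ee0747368aad80cc62e4f8e886cf7b9ade7d514a51400084e530a48941d10d6dce767540320d91cc2d4d17b7b580cc36adba7ca2730727f63d4d7440f0731575d004814c5109395e7513282617a9cc0dcd17b15580cc36a0aafead545c93f73c2f8881c4406eac130534cff30cc0cdedf32c27cb85eeb8124e0ee14998a476f922000a0004d9820a2e01b2008080294c4400400e04000200300208a8138007822022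690110a638223102008c50c82a20018e8300881a0a60405da6482c585b6ef37cb58070815e0be63296c887124086fd653ada5d61d3e79101c8be5be69b00e01640878382d4b2a19010800201010a4a02c412012645380f9f8b72b8af555202c4b57cfc69e979a080a79b995b42cd920021925006e9b05668ef9a589079adf37759615e68ddece63f57d8d3437134486fd652aec7cd15669b22b0606cf9c7b2d8008609001bb481517b1c41221bf5945b4df8c6aaaa0461f5eb327e31b80020a03006e810ab680af0c80882c32beb76f93901010418406a3dddd3e885c1cfcfcf401205123f24ad12a22ce0e4413949e284d8d71421cde2a2abb01a9daa9dd964a4,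
    0x808082a888800000002303030d53330070480270a022202a28800000002148646054512584ad09008002008880000000000100040111000000000aaaa808088800000000355d703011102484000008820000000000000000110400000000424000000a0022888800000002003c00e53330003120258002a00802a20000002100054030054c10084240000020000880000000000000600011040421008000800800020000002300030290000c704b1e7820a80022200000000a3249d000644030848c37a00a0802008200000021e8b6b8a6892e286eccf00820080888000000000010403011100404000000000080000000000000000003000000001200088a002a888800000002311c80d533300314002580028000008200000023000f08a0012c300a0e7aa0a8208a0aa0000002354970631415e484292d0882000008080000000011040200101040421000aa222808808000000a235cc45031012100213e008002800000000000000100070000000200000800aa00800a20000002100174030014d10000240002020000080000000000040600001040421002208a00820a200000082649b4032414e1840813088202800808000000001104050010100042100888002a008000000000311080dc0102030411008020808000008ec6800800000280000860435cb8a222a2aa28aea3ba38c000002000000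405200008a280000000d2420008000008a00228300a4cb8020802000028e026308280aaaaa8a286c6e5c1000000800000008480022208020000027052000000088080000642119000000020000004042100a202aa2a228a690b938c000002000000421200000000008000004020100002020000800808820000000080000010100400208208a2022b384a8cb8882002008089cd4440200000280000170431832a202220a008ee18a2ac0000000000004010000880200200808845044020008088000212002083088202a80880000000a0138607f2312b080a9f508020000800000000022120400832021500110f8000020800884400400402820a22220b284b8c8,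
    0x414511000000140000020c300c000000613f002814326403ffc284e4090f18e0530555256cc01f83cc00883ffc184fc0a9041841105550100a01f06bddc783ffc956400046d9a63905551313501dc55763103ffcc4d9801c328e0530555001030151fe4db2d7ea85c5d40aadb47965ca9606170fbc47f8cc443ffc896d400764be63305551100a01fc55762043ffcc8dd401c318205305550400a0179c28c889414040120001d06f111c03001046f49828a23140000144b0008010480000003603600086f7c6602eec896f40d873652e602243a5bc0f60000013c000010468008010408a00000400000000410268044410008000030c0a50330000030c0082381fc1540104480d716d385f0bb2310260e8082382e81540000200df17d78d50bb23213c0ea5e23e28d630b60110932a4c877194419000cf76c083220408e1100085b13692c42344133337c5d6db25dea9b4d08807b444e5d6d816eb13a243f5c1a6a04419f3d45d37bc120002c1314840430e0e9e00cceb59dc85f780767bee33119423977320c1e7a2041db7c85d74bc10080531134800400208a29a1fc3748040b837c33458e50aa23213c0ea008201bc088800040300010408a0002042500c041e5b1201d21cc5df49e17924961645b3136debbc2fbba000008dbc0022f0be2220000216c6008c1861228000034424008030c0ca00000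4109002c14522280000d40d8003051488a00003603600041c9284416963c4f4cff1223f086acc922a4cb1cde6a3e4d59ad4c9f25431c00b45a0f84b11330f9e460cd94d6e95e7177379a8333565b6337c5563cc013c11088d6403d400000300112002420c0c9e460cd57d6ca5f4cfc800c8000442114ae0f7000000c00448009403000208000000004108002c486a02449e94c91573f278c8332525a3173876200c540fe05b220b7cf80000060000104011100c966a3949980c4cdb0d72792830255232174cf5451673c83bacdcdd40bf20cb0b90cc5322640d0041362c82aa8d8dfc0e02beb40905553134300bc55760203fe8c4ddc0362089c4350a5b0874303,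
    0x3698ea60b30ee70891f8440f6e3f32fb6834c12ab77c57a9ee9c236280faafe2d7d756f4980143665e66d69e5b2952056d80163e7bba9efc91c0ec18be36da43038340dc1a3f88f648b4329e1591f46ec6d52155decc3e3c49f88baf9b576ff14156b7a2882b7cff64c1327ace6936b4803789fe39fe6f0b5cbb5951003578b18348d9764369fcbfd178bf14bc3fc5eff6f023ecbcb9055a48aecd4d10c03274141497286f02bd951085f05749d8d414c9ad5cc4309fb33495cd6d1b04665ebaf500a98386b74f9677141ec5dd042d3ff428244140ef59f38b00ea3ad11e76f978c55fec6749c6970f82bde898ad1ca3999eaa47e0b11efade03707138d794f208b969b103c442b99c598e224f8178a9a04075af756801efff9a9816c063605052b963bcac28dcb9e9f90004435090729b347afbc3015149e5b18f8d45834885056c80e933cbbf789515b41ebb1a9aa7d76ee59034da3d0b44484d3e910591a3d18d9921544499238612d0f40a249f4f30795b757374c017d45c85a0dd7673efaaa010610be9070ad0f39adc6d8c6f254bbf1d72bd3435216b13ce9cebe3e8751400b3668ffc16d8ef2ef6168745641f267dd3579018c7696f65682a6d097192ce75c5350c239fa8554f563c46466114eff612c5c2c6e71ad1e5347ca57dc72570474895657cd7f69781c50aca7ca3d3982308c208f3c33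1dc550a01b6d9caf5ca0df8eb5f5f12f2516177f39e6a728b062756c15de615d80000088d00a7c300f4cbd7aa35f4017a49cb8e39a8d4606f651719e174f00c10000e30410562fdf30f430c134d2c378beaaa38c4d7d982fe468f30134b0c94d9d8491be8597d5265400008f774084d04ac76db2c51633d5ca673a26a5ced4dc8f5f01350d114d17059ee9aa29bc4340662afa0d76e7da7160c718c527246bd00c13118e071145861df34c48421918a52618f338fc4b61622a51c57ce65b4429a49122bc50bc1fa6b3da2bfeb04fad672254855ae056e5ac4615070428311d226980189f56d6e465614c7765e744e2da4f8f7103c6fc0efc6335e96bd55f4fb539,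
    0xa8822000000000000003f30cc0000007335023a2a00888aa2800000003cfc03333fcf282040238aaa8008aa28000000213fff0213fcf3424a02500a0282000000000000003c0f0c00002a2150230a0802a8aa28000000003c300ff3fcf07011000aa88008a822800000083d710033f2c700f80a990a8a8880aa28000000223f3f3123fcf1c04e0060a8a0000aa28000000003f3c0003fcf0000000028000002828000000000f000000f0f030ec8b410a8822a8aa28000000003f30cff3fcf07011000a888008a8a0800000083db10033f1cb28d84aba000000a8000000000000000003f00000701100000820000088800000000030c0000333003481c2008020000820000000000300c00030c003240230002220000a800000000000ccc0003f0707d1e120200000820200000000c0c000030c0e02001410820800080820000000030c30003030f0248141022008002820000000000cc03000f0c282040238a080088aa22000000213c300113fccc00001648a808888a8aa000000033f033333f3fd804c1628a8a0008aa2a000000213f3c0213fcfc40021648a8820a8aa22000000213f30c1d3fccc2011164000002a800080000000000000ff0003070110008a88008800280000008317100330207003000990aa82a200000b7ac00a6008022200001cece0080aa82a2000001f614028000002a000007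34b00200000000000000cd408c000002a00000007e02128200002828241b21c000800000020828704aa300a28080088ad040b60c0280a0802082a131a80282000028282c032310400820000000b0008c4100a028200820a8046a00000002a0000070111c080008888000270039c22000aa8a002a9b0036c8000000a800001c00c700000002a0000070001c020200002820283a00d04a080000a0a090ec8300222000028a2223610f88020802002220434a0c200802020082008cd428c00088a8002a0107e0610a0800000820000000223c30022030c003001e5800000880000000000812a208990000050340128022a22800aac40db1282a2a220002a9c006709,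
    0x414511000000140000020c300c000000613f002814326403ffc284e4090f18e0530555256cc01f83cc00883ffc184fc0a9041841105550100a01f06bddc783ffc956400046d9a63905551313501dc55763103ffcc4d9801c328e0530555001030151fe4db2d7ea85c5d40aadb47965ca9606170fbc47f8cc443ffc896d400764be63305551100a01fc55762043ffcc8dd401c318205305550400a0179c28c889414040120001d06f111c03001046f49828a23140000144b0008010480000003603600086f7c6602eec896f40d873652e602243a5bc0f60000013c000010468008010408a00000400000000410268044410008000030c0a50330000030c0082381fc1540104480d716d385f0bb2310260e8082382e81540000200df17d78d50bb23213c0ea5e23e28d630b60110932a4c877194419000cf76c083220408e1100085b13692c42344133337c5d6db25dea9b4d08807b444e5d6d816eb13a243f5c1a6a04419f3d45d37bc120002c1314840430e0e9e00cceb59dc85f780767bee33119423977320c1e7a2041db7c85d74bc10080531134800400208a29a1fc3748040b837c33458e50aa23213c0ea008201bc088800040300010408a0002042500c041e5b1201d21cc5df49e17924961645b3136debbc2fbba000008dbc0022f0be2220000216c6008c1861228000034424008030c0ca00000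4109002c14522280000d40d8003051488a00003603600041c9284416963c4f4cff1223f086acc922a4cb1cde6a3e4d59ad4c9f25431c00b45a0f84b11330f9e460cd94d6e95e7177379a8333565b6337c5563cc013c11088d6403d400000300112002420c0c9e460cd57d6ca5f4cfc800c8000442114ae0f7000000c00448009403000208000000004108002c486a02449e94c91573f278c8332525a3173876200c540fe05b220b7cf80000060000104011100c966a3949980c4cdb0d72792830255232174cf5451673c83bacdcdd40bf20cb0b90cc5322640d0041362c82aa8d8dfc0e02beb40905553134300bc55760203fe8c4ddc0362089c4350a5b0874303,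
    0x808082a888800000002303030d53330070480270a022202a28800000002148646054512584ad09008002008880000000000100040111000000000aaaa808088800000000355d703011102484000008820000000000000000110400000000424000000a0022888800000002003c00e53330003120258002a00802a20000002100054030054c10084240000020000880000000000000600011040421008000800800020000002300030290000c704b1e7820a80022200000000a3249d000644030848c37a00a0802008200000021e8b6b8a6892e286eccf00820080888000000000010403011100404000000000080000000000000000003000000001200088a002a888800000002311c80d533300314002580028000008200000023000f08a0012c300a0e7aa0a8208a0aa0000002354970631415e484292d0882000008080000000011040200101040421000aa222808808000000a235cc45031012100213e008002800000000000000100070000000200000800aa00800a20000002100174030014d10000240002020000080000000000040600001040421002208a00820a200000082649b4032414e1840813088202800808000000001104050010100042100888002a008000000000311080dc0102030411008020808000008ec6800800000280000860435cb8a222a2aa28aea3ba38c000002000000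405200008a280000000d2420008000008a00228300a4cb8020802000028e026308280aaaaa8a286c6e5c1000000800000008480022208020000027052000000088080000642119000000020000004042100a202aa2a228a690b938c000002000000421200000000008000004020100002020000800808820000000080000010100400208208a2022b384a8cb8882002008089cd4440200000280000170431832a202220a008ee18a2ac0000000000004010000880200200808845044020008088000212002083088202a80880000000a0138607f2312b080a9f508020000800000000022120400832021500110f8000020800884400400402820a22220b284b8c8,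
    0x20808800000000002000c303100008000ad6508020002820000000000100400050400000000000000000808000000000000000010100000000020880202a8a0000000004110040551400000000080200008808000000001004000110100000000000080800002000000000001010000040a00800200a000202800000000040140004050000000000802000080800000000010040001010000000000000800000000000000000010000000008404000a0a2200a2a80000000014144401455000000008000880800020000002100831210000f4ccab4f008202000888000000000104040011100000000000000800000000000000000010000000240100800000a800020000002100820350000f435ace68000000000020000002100820200000f4000d2408000002808000000000100000050100000000000000000800000000000000000010000000000020800002aa080000000041000005541000000000800000088800000000010000001110000000002002000200800000000040040004010000000000800000080000000000010000001000000000000a080200a208000000001410040144100000000008200000880000000000104000011000000000002080800000000000000041010000000000d000000808000020282b5000002000000000848000802008800002d731b58c00000200000002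42000802080200002d4d6752a00820220000b5000d480000000000000010100000020200000940ca36a00000000000000100400000202000009405a4c3000080000000402210000000000000000040000000088a00000781bde84000002000000401210000008000000040001000000220200001900064000000080000010000400000002a0000070001c0000000000000028034000000000000000840000002080800000d332b4ac0000000000000240000002080800000d0d6b4080082020000034000d000020808000020000008000c30100000c4002c1000000000000000000020008202000000000a0050000008000021012040c008000000009400a501,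
    0xa202aa8a8a8a00000001ee8dd795bf9d59d7f6020a0a0aa00aa000000a0c9696976a3ffdb9ce3d888a02888200000000a333160f130601500a4350828088820aa0000008010d03338c3fc08cc63a0888202082aa0000008019906a61a5fed316a18aa0aaa02000000000081f41d74240a03d8c641b2a80a228280200000020558146505004095292520aa028200800000008263d60d060303120841088828008080a00000021bba72a90b09ca9dfb6d088aa02aa0020000002099bd4a5f6007d75212c0020888a228a000000008869393c4f97d42906aaa28202aa882000000a376524a575305511ad3580800008080a000000230b802a90b09ef117b6daa2aa28a200a00000081fc5d6d344a9508e145a88a20000800000000003996600090003b40840b0228828222aa000000008cfb2f24c5ffd086201a822008a82000000002170c603170603400a425200208080200000000004004101806000cca42b2222028222aa000000004cc42f24c5fed00620102aaa2aa2082000000a005d747566304035a53c28a8020280800000008273d20c07030310084102a028200008000000080dc2f0c080303dc48410a2aa22aa2082000000a165d647566307431a53c8a08aa000280000000813411540805034cc04300aa828a8aa20a0d66808aaa822a0a0a1f9cfb49220a0a0a8802f7ab7a262a8220a2a2a3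a30df4908a82aaaa2a0166cb782882a0a0a2002ee5ad0222a88aa0a8a02ae7f824882828200883d42922a8aa08aa0a8a0fcc7f824080008080282d8ef601220a0a082028f4670b0c200202020201420a400220a0a0a02a0f73851aa220200a22229220958888a002800800c614a42488aa0a0a2003d75a50b80a0028008009404a42600880a0220016b521002002080a0280271190ac8a202882a28be3d5748220a0a080220f428c1062a022882a289b31d74822020a080220902ac106a82200080000fc4840b8a282a80828000000003bed2ffa12d2836c91a1282a00828000000000a0dadc838da88a1f1d7558a808028880a7380c6a68200808aa889a35d763,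
    0x28a20280000000000000f3cc0f0000000240002a000800002000000080f42030000043800401a82aa80882228000000210df70110eed303400e78020a80022000000000308e3f800ee83e3450e1028a02282aa0000000000f3c0cf0ffc031090c2aa2a800a822200000083f4df003f0c4f048021a0020880022000000000008e33000ee8383440e1020800002aa0000000000c300000ffc001080c220208002820200000000c0c3000f0c0c048020000822028000000000000030cc0f0000000000000a000000002000000080342000000043800401a00000028000000000000000000f00000301300000820000088800000000030c0000333001080c20082222808a000000000030cccf033c0312d0c20082202808a000000000030cc0f033c0012c0c220008000020000000000e00300000e0200400410820800080820000000030c30003030f00080418a22880882220000008334ef30330c4f800401a820800082222000000210e380210eeec410a1a60a20880082220000008034e330030c4f800401a828a0088222a000000210d340110eedc01081a600822088000800000000030ccb30003060010000000022800080000000000000cf000303001000820a000800a000000083041c00300340000805b8020aa002aa039f8438408a22000aa8387c40e1020800000000e0090000000000a000003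11b0020000000000000c4b0008000000000000012c002280080020280833009040020000800018c0420000a28080088ad040b60e08a2a00088039028e090000000200000300080000820000000b0248d410000020008a018d84384000000a0000030010c0022888002aa0e0d13b8400000000228003600e10000002800000c04c300000000000000001300020008002020041221800a00200080a0204c0641080800000080e0110104020802002220410a1c20082208808a8144b860802088a2022a0612d182020800000020000000220e38022000e00008027808200880008000000810b2c8b300030602d0338000220008a018db43a2028a222088238004e22,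
    0x8a07f1df09ce433868d95154eb1e6ef28634323e7298f7f2b25270ac7cb7d893cf72c3f02d8112c9b760ca64a27d3a474e1893872289ab79e4982e9ba38c5e5fb1d0987b45dd4b19e7e90e3153a59b56b9f9654c86866f7ed16164006b0796f931b047184848c87a78ee82ffcfc1cd949dc942126d4d2d6aa102e2001a77cf9a7d9773af3caf452880f4153b6d96bf5462f851740004d24cda4a4e20fd48cdbdeb25b44e77e643ad23a3aa82d4695c9854be26483e7f54ff05c86379b444fcba21dd15906f371a992c934e77f4ef65d465ef3a58473a4c45a874dd8d9e19c409c5171376b21ae7a60902aa91cb97b04bdc6e07ba21838042bc090804a9901ce226a470b39f8879cb0f1f46bd19e9e719aa46783d9f7105f54f5f22c2a91df64f6e2a752a893ff26de2d879b8630e2a819852e3a80367ee6a53e90bdadb25d0101f5be23e23e516c6dce9b58eccbbeaff3f0b30a007a0f966b0a31f8d6f3e5aee45bb12cb8c82bf6f3cb9c9a48c43d279a4bc5c6131284b86b0018477a6dd429a4a1a1ea743508c845432c710e109287a50f4be19952f703c77b425c78496adc18967784bbf192e0ff6a9f7738480e983ca861518d11f69b8b86d3197aa0af5636af17ca97165babd047b1b380b0b4a526dc2d7f3815019ac2c2c858d82b55bc1115eb5bf21f98c976f8d4517fa6eb7d0dddd436fed59560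fc38b547508ebbd67bd5f3ce1d82d6051dc91f68afdc587e7ac6d72def767867afbcae7de5451acb1d3aeee4e5ae82eddd87b4c13b92e1b85f5a2ed2abe6208a828288002fd2b425c412f0cc8485a4244a76cee22e28c688eb3b76ab96fa5754ed61af18ea30cdbba71c6b554f1dd0411424a51009fa173a26224b8320121c8693a9f0def6336bec4d7e095e80259c7d53b63df59610ed76e99de007345de8fed8ba34a8c68bb4a77ceb967ae576dee58b8d6a000023342ede0845f92fb726499960069f594acf33187f5904e671a58ffc36877f052e21e6d287cbf8e0d8ef99f987705a3ab21ece78b6e93dbfece24bd47eb8c2c2107993e0c323e4e5c14318b3,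
    0x593cf0d9deecfa6b7b9a8f7d8e8eb32030120184fd6235f02adf8fbdfe25ba14cbb712f411851c280765bbcd79b0c129b1eb8e5e865d20825eedb7da6334d3c8348c23034806b01519b9c91bef6a116ac7767819b0115f7fa1199d8f17eef305bc836b7612a7db4b0b92c120f241f7086f0a104375f65695777dba1d93bd4d696f577f4e3c265ff530d80214708908551fbca3bbceaa31d72816a01b5363db139e3fa1dbb8a3e62a86effde8064cf73e20f57b3a8989951fb6aebd258bec4e2670fef7a9c971ed6d35befbb821676fd04175fc064cf438fef0980fbd2a81a468205bc2f8f4e3c952cf72c2fd2e87596339ca38c4060041f0c2d821121bbaad542870a4199c3380de716215f939c9776f770dcc328808a0bcdb00600e00811033c02013020a90943dfdfbfa8812da3eaaaa6a6bbd4036ce28c00d3d043511384b85ab063423c08fdcc0380d7d020e10e6643bc539c0aa315634fd39a623ca5bc18d2af423cb380a015c06001f705bf8210417d0e0c01030490bd5abdc032b0a3333cc2d179140034010cc00c008488580060089102280212003b0eec3a30f34ab45a856c0480266f7dfc0400f5002c0318808500808466c0d004fb00330012016000300fdf5dff09813d20060089d0c228212017b4c8142d48c4d4886d223902d03f29bb5c8f6a6144034054044d96c676053d78dba29bb6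915fa690b86219f8225fa2d8dc13948577e19a23554ed235b044f256f680fc27f4eac4414bda9be0fce7dc34d35b4266738478e11d4d1d679449653fa94c0654158b8eb0ab7ed5c300f430cd04d0c638eea112df59c1125277cb53306f47d7dc628c729fd10c0c00000c30b4df458c0940562e2a802617e13000003000c30084885003e3081503322f26f0c3c34d0480264330420c100bc0f51d16402726f530eac29cfc380bd93904c000000c000d000300c003701c137526098d39a00000000030c001311407bc59a5bf46c25997b937cf36f1cdaac26214de81cf19842b132c0a46fe387c4062d24e805dbe279358d98be862418c1603f70dff298b6d14fb22,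
    0xaa8a88a8000000000001551511500000706c02180a0a000a200000000012961400144030324023088202a800a000000080330c07f00140404001aa80aaaaaaa8000000003f03fffffff00505d7ea00a00228a0a80000002229488ef14152537100c080200888822000000821a86811bb8c65968633aa80a802aa2000000083ff03f80ffe4060717d10002822802a800000022002d8ef00551205502f0880002088220000008233a2804bb8c5290461200002a8002a8000000220028dfa00550d03900e028a20882a22000000820f96c11afcc4d6cc610aa8a8a02aa2000000083ff3f340ffe40707e7d108820228882200000080338e0c5bb8c4090861202802088288a000000800f80e3baf9940635618000a220802a800000000003eeeb0055000f50088022a2a8aa80000000012a6d4ff1770303351e30882022800a800000080330c0ef00150005101a2808888aaa2200000020f033311ffcc4004c60600200088a8a0000000222a4881317162536218c2a828a0aaa8a000000a0ff0f3ebffd94007163d00008020022000000022002182c00661205406f000008880280000000220028139005a0d03b04e2a88a802aa8a000000a0ff33f2affd94007d63d2a88a80000a8000000a0ff33f2a00150007d03d82a0a202aa80864e5f2622a2880aaa0169557e882a0a202aa8039bc5f2c228a000aaa00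495a7e802a02aaaaa800981df0c002aaaa0000010f9008000002000880109447022aa280028803516cc2a000000800808008086022a88802282aa51628e98aa8a200aa80d81d77a00000020002200050040800a08a002aa340fcc222a8880a2a28a50739698008a020022248011222002822200a08d0083488008a028022248035222002822000a08d00e3488aa2a00a22aa964a9ba600a282888aa929546c8802a80a280aa35bcdcac008202a88aa809596c800200802820201811d8c000222a00aa000f90482a88a8000000000000807fbb5002a8837003dd0800222a800a0000000a1aa26eff003c070120140aaa8028aa08dc1f368eaa0022200a09200f489,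
    0x8008aa800000000000230013f70008a8000572c880028028000000000a31022fa0508a9408573ca00882828000000000814031ad0508a8800573220800822280000000000410030c45000a0200008a002020a800000000a31422ea4158a9e01571522a008222800000000004d40104c70020e0080000020008028000000000000400300500100400000080008028000000000001000100500100a000000a800802800000000000350010070100c0400000802000228000000000010040004500005000800028000022000000230022fa00086d40855060002200800a800000000000440300150100100080020288008a000000230026a7100bbd804560e800020200022000000230022ea40086de0357af00000008000000000000000000100000100e0402800080080220000008250229a0108e5c08551828008082020a000000a25023ab040cbdc00521e2280082208000000000045001044100000202800a800020a022000000821522aac148e5c0157b1000a00080080000000000014001001000004040000a0008020000000000001400300400000a0400008220002080000000000104400041000050000002220800a000000000000444100140000104000008880022a000000220023bb000c7dc00502422a000000000ab800000002a0000000110c000000088280022a50215ca8002aa00008a9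904572200088aa0022a780d5c0c000000200000100e000a808aa82822a72215c08088000008002042080088a8aa808a2af0857cac088000008002012080000088000020040211000000a00000201004a40000000820000028080a0000000a800020601118000000000000000020000000000200000100404000000008000004008100000000200000100104000200002280003802a00000200000a0000c04408008a28002087021548a0022a8000a81c04566a8008aaa00208700d5e2c000000200000000e0408000a880020a0000008300015b000c158004118000822000228000000220030cc000459c0007040008800002004001100a0000000008a9c005701,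
    0x822000800000000002010c600120208084886500008002020000000000000100040400080000000000000808000000000000000010100004000028280000202000000080705200024249084885a080200800808000000001004010010100200000000080008002000000000001000100040800800200880020200000000004013000404010008000080200008080000000001004000101000040000000080000000000000000001000000000800400a20a20082020000000a164964012424b084887f200088020200000000004001100c0400048020008820280080800000000110407001010400200000000080000000000000000001000000024010080a000a808080000002121c20152321b09488e68002800000820000002120870002010f084082400000002000000000000000000040000080040000000000800000000000000000010000000000020200002a20200000000404000054404000080008000000888000000000100000011100020010020008002000000000000400100040000000040008000000800000000000100000010000004000002080002228200000080249200064707084881b008200808880000000000104010111000000100002080008000000000000041000100000000c00000080008082021221000002000000000808000200808000000410100000000020000000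20200080800220000094404002208a0022020a1848848000000000000000010000000000800000880200000000000000001004002002000222090a488c30000000000000020000000000000000000400000a208800a0a2e31b2180000002000000421200000008000000040001000002020000800808820000000080000010100400208208a2022b384a8cb000000000000020030000000000000000800000000000020000012010000000000000000240000082080008880c25204082082000200030840c000020800080020000008020c30001020c08008100800000080800000002010820003030008480050800000080020202000c2080000002090808001,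
    0x800aaaa800000000000100355d500001e000000aa028800a200000000a1542fba814ea070867f4a88880820880000000835139a9841ba0b0467faa2800a22082000000083452a9e441ae150267db8a8020a0a008000000a1152aebc14ab190167ddaaa00882a802000000017d40110d70040f00000000a200800a000000000001440300140100c000000a0208020800000000001404100410100a000800a8000028200000021001faa800da5f0c67ef00082208020800000000001044100410100500080082808022200000021001afa900e65f0a67ce0002220800a000000000000444300140100300080020288008a00000021002ea79009b5f0567c680002220002a00000021002ae6c00a75f0367e700000008000000000000000000100000000f0000a088802a0820000008014399a854badf0861d0208280828a02000000a0412fab851ea5f0462d620802822280a000000a0412afac45ab5f0265770a0002a0a82200000080142aad415aedf0166790002200802a000000000000440100540000c04000080208028800000000001004300510000a0400008020802280000000000100430045000050400002200800a8000000000004401001500003040000088a802aa000000000001115007d400007802a8aaaa002a8cfc19f060002aa800aa0f0ce7c380028aa002a858289f8a0022a2800aa1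a0547ea800a88a002a8740ddf2c000000000000100f000282000028000c230300088aaaa888aa37406deb08aaaaa08aa8ec81bb8c0a800000a002213088000088800020060221800000a02000201404850000002820002028084a0000000a8000206011180000000080000040201000000002000001004040000000080000040081000000002000001001040000aaaa2aaa87fc1b324002aaa8000a9f0ce3cb000aaaa0008a7c2896a8002aaa800889f0546a2000aaaa002827c0ddd0c000000000000000f0400002a8a0020800000080002ff14006b07002610000a220002a800000020003ccc000551f0007c4000a802002804c019308000000000aa1e006781,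
    0x8a008a080000000000013c011c1000000000000208220000200000000a0410cc0028421ef7f6558228028200800000000304d00704010000000008828022200200000000310d004c40040000000000822000a0080000000001044001401063100000a2088a00802000000003c411140300400000000a088a080000000000001413343000000000000008020000200000000a00108c0028420733d67e8028088a0080000000010070111c03000000000008200000200000000a0010c80028420735e65f8028802a0020000000010071005c00c00000000000002a000a000000000000007c0014000000000000022808020000000000000c50300400000000000028808020000000000000d1030040000000000000a800a0000000000000015003c000000000a00880208a20000000014033004114c0000000008000002208000000a001088002c430633ff77008000008208000000a0010880038430635fed6000000a008a000000000000003c01140000000000022000a20800000000000440014410000c6400000020808220000000000000430104c00000000000020808820000000000000430110c0000000000000000008000000000000000000100003180000000a000a2000000000000014003c4000000000822000a008e3dfd980800800000002d088000200020000000cc210000020880028020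533d64b00822000a0080cd799a8000880000000700c000200220002008996fc9ac8008800200226adf44a00822000a008188bfd08020880028020614fee300022000a2087bfcd920000080008020213524000020000800810969100000000000000001318000022000a2081cce598c000880028820735664200000000000800044100000000000020001204000000000a00000c03e00000880028820633fd2a00022000a20818d7ea2c00000000002000100c00000000000080004050000000000000000031c000022000a00800000080000cc0014030601361000022000a00800000020000cc001401060006440000200080081042488c000000000020630f601,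
    0xc000000c01c330038c0000343330070c000e308380640018000402000009037000d00010000000240b4002c00040100000701a000600000040000818f3e8c39c314038cfc0d0c8630970cd00e31f82c529cc25c324038c4606044f0070004000028dc07800dc1c3b403ac24d01d333a070cd60eb01000600000380000200000034000009000008000000b000002400002000000180000070000000000000000000004002100000000000000000c8400000032040018040100000000843000d01000000800c0008030220010820000c22200f08d00a12a00002104002c0400800000004c200060000200080010008004210008420001022200508d00c22200001308001c080042000000c41000a000310800000000000000400010000000000000000060401808c003838000201000d0110009090000004002c02c00242400010100060060007070000400004387248c1bda3403844d091c4230d3d0d00e33b42470a4c2d6e340388f40700050061680000120000e0000018000020000002400000d0000080000009000002c000020000001c0000060000000000000120c0038000101000000c410009000000400000230c002400008100000048200070000200040070004000134038d00000011100d040000348dc30000000007180000000030000000000c0000c00b048c01c330038c1b00182130070c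c00e30e000013300000040c000000000030000000060000000c000000042300001c09c123c070e548eb0f4427084c41c3a493ac1d071c22f0770cf13e3260000800000004022100000020000000100484000000302000300809420000000480001020130800000000000000002000000000020000010040400000000800000400810000000000000000010004017088dc1c0358390b400010000000000c800040070c8c02c134028d39001c23300604d00c34600000010001c000c410000000010000000060000004000000c034038c12000813100808800c1340007000001c000000020003822300900000e0200007000c01c004018008001c220000001000025,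
    0x4d0c0e08c01024416bc32010140000000000080c900003a0000000000021c000094000080000000000000480000800000000000031000020000012600002180080400000c7c00004d00201000000c8000008c000000000021000001200002000000020000000000280200000400000000000000001e11c2408da192441668f44e05023d4649105ba0c80004000c800000000210003000210004000000200080c002021010000040010200040000000630c23100238000000a3786149c2349749105bdbc104862bc03d3641e158000104c8004000000808410280008410040000130c0700013040100000000008000000090040000000100000000000008cf040408403d20014b102400000300400000088c13c0688c8dd24697b90009005003200000008080000024800020020001000000710000800800000000008000000000000000000100000000000209000030c000000000041c00008200000008000800000040000080000010000003000002000002002400322c90000000040070008461c00004000800000048800010040010000003110000401000e1842429d07d244146434510506fc3b4910539008200408cc000000000010403012200000010000208080c00000003400004101020000000000000100000000002c0000000400102300409505806f1044408c01da6c16840000010000000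0500004c9040508c015a40162100080c100001200b0000000000000000080200000400000000205008000000000000000080000000400000000200008000c1000438c0193440ea8000000000000020010003000410200029000a0000000100000042001000c1000408cc1924497040030101008c090a50400000004000001014800030410d52302779105c9000000000000028000000000000000000840d000c1040438c00d36414a400000000000002400000c1040408000d2003400304101023303491a1020010404080010000008030820301300848104100c0000008c000000002020410103100009100070c0000408001124004040001010230020010002,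
    0x40000004018170019c01002511000001c000008180e8003800000200000d0250009000100000002c094002400040000000601e000700000040000a3801602180020000080491ac614d605d0067370a46ab04ad8174019c661700490160004000028580680058181f401bc25f000110900020e00008000e0000018000000000002400000d0000080000009000002c000020000001c0000060000000000000000000004002100000000000000100c0000000812080238000100000010c4100490100000080080008020220010822002a2200020150867220002230400a404000000000448200170000200080010008004210008422001622000401904672a80001200001a08004222001aee100691f03670b00000000000004000100000000000000100e000380880018180002000009013000d0d0000004002402c002c2c000001000700600060600004000021802c02383a000008a34d1a42149691d00671bcac68a04a5a474019cd41600070170780000120000600000380000000000034000009000008000000b00000240000200000018000007000000000000832080218000100000010843004d000000400002210c00ac0000010000044c2001600002000c006000c000374019d03001b33000901d0060085810000000003380000000010000000000c0000400e8c84018170219c39001e23100605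c04670640069a940181740d9c9c000000100000000e00000004000000042300003809a321806075406f07c42688c44181e481bc3c068000406002213080000008000000040221000000200000001004840000002820002028084a000000068000106011180000000000000000200000000002000001004040000000080000040081000000002000001001040c036888581807781909400030000000000c8000c0068484038374209d1b001a2110070dd04474ec00688b4019b740ddcbc000000300000000e00000040000008074019c32001f31300e08500261000060000018000000020003622100b00000602800068004018044019008001a22000000100002d,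
    0x40000004034130038c01001c11000000c000008180ec003800040200000d0260009000000800002c09c002400040100000601d000700010000000838516841b4114038c5e0910d400d0008000020824f2b442f4124038cc4073068106d04d00e319740d80074341b403ac25a001110700020600008000e0000018000020000002400000d0000000000009000002c000020000001c0000060000080000000000000004002100000000000000100c00000000120c0038040100000000c4200090000400080040008010220010822001422000100500e3220000230c00240400800000004810007010000008003000800c210008422003c22000c00900e32a000031080034080042000000881000702030000000000000000040001000000000000001006000380840018180002010009012000d0d00008000024024002c2c0001010007007000606000000400c18d2c84397a340384cc0d00700094980000228c2cd0ac427e634038857063424107c70d00e335000600000380000200000034000009000000000000b00000240000200000018000007000008000000032040018000101000000842000d0000400000002104002c0000810000004c3000600000040c00d000c000334038d03003433000700d00e0087410000000007180000000010000000000c000040090c84034130038c39003823100d04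c00e306000031100000040c000000000010000000060000000400000004230000340b432140d06548eb07cc2d08c4c341a493ac3f0d342250dd04f13e32e0000800000004022100000020000000100484000000102000100809420000000c8000302013080000000000000000200000000002000001004040000000080000040081000000000000000001000c03d088743403583909400030000000000c8000c00d0484024334028d1b003421100e0cd00c34e000000300034000c41000000003000000006000000c0000004034038c320038313009085002210000d0000034000000020002c22100600000e028000d0004034004018008003422000000100002d,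
    0xc70406084030244169c23c20242100c09105af04b00001a000000000003180000d4000080000000000000c80000800000000000021000000000032e0000238008040000086c0000490000000000048000008400000000003100000130000200000002000000000028020000040000000000a00800363342c087a3924416e8840b040009400000020048000c00048000000003100020003100040000002000804002021010000040010300040840400e10421300218000000a25cf34f8214df49105bd9430c8e29401d3641e35d0c3134ed00b4d9078508c30280008c1004000012080700012000000000000008000000090040000000100000002401008450c0c08c01d200149113830302200b480052c843140e88487d246979910ce0352133f491a5ee08000002c80002002000100000061000000000000000000800000000000000000010000000000020b000010400000000004180000c3000000080008000000c0000080000010000002000000000002002c001224b000000004006000c4718000040008000000c8800010040010000002110000000000638c2c2b70dd24414e404100404882c0000020008200c08440000000000104020133000000100002080804000000034000041010300000000d0000300000000002c0000000c00302100c0950580e530ccc08403da6c16840000030000000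050000c4b0c0f084035a401623000804300001200b0000000000000000080200000c00000000205008000000000000000080000000c0000000020000800043000c1840393440ea8000000000000020010001000c30200029000a000000030000004200100043000c084439244970400103030084090a5040000000c000001014800010c307f2102f79105c9000000000000028000000000000000000840d000430c0c18400d36414a400000000000002400000430c0c08000d200340010c303021103491a1020030c0c080030000008010410201100448104100400000084000000002030c3030320000910007040000c08003124004040003030210020010002,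
    0xc000000c038370019c00002f33300e0c0006708380680018000002000009035000d00010080000240bc002c000400000007019000600010040000a1803e023800200000824d3ab6349e0d500673f0acea90ca78374019ce6163a6f317e0d9006711f80e800f8383f401bc24b03a33350e0dde06f01000600000380000000000034000009000008000000b000002400002000000180000070000080000000000000004002100000000000000000c8400000832080218000100000010841004d0100400080080008020220010820000a22200a09d08252a0002210c00ac0400000000044c10016010020008003000800c210008420003222200f09d04462280003200003a08004220003aae300e59d03778300000000000004000100000000000000000e04018088003838000200000d0130009090000804002c024002424000001000600700070700004040023802402181a000008a1493a5234ded9d0065134a4e8a0cafac74019c75173a25316e69d00663d000e0000018000000000002400000d0000080000009000002c000020000001c000006000008000000812080238000100000010c430049000040400002230400a4000001000004483001700002040400e0004000174019d00000111100b040000748f830000000003380000000030000000000c0000c006848c038370219c1b003621300e0d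c04670ec00ebabc0383740d9cbc000000300000000e0000000c00000004230000180ba12380e0f5406f0f4c2e884cc383e481bc1c0e8000c0e002213080000008000000040221000000200000001004840000002820002028084a0000000e8000306011180000000000000000200000000002000001004040000000080000040081000000002000001001040401e888f8380778190b400010000000000c8000400e8c8c018174209d39003a23300d05d044746400e889c03b9740ddc9c000000100000000e000000c0000008074019c120005131004098004134000e00000380000000200026223007000006020000e800c038044019008003a220000001000025,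
    0x80058888000000000023003b33100508100676c0802c0028200402000001006000504000000000200840028080401000004012000501000000000e0858e82296254019dce41002404504000000204a05a840a94a64019df6140042015010000002894200881400200000001e040110b00060e008000002000002800002000000040000050000000000008000002800002000000100000050000000000000800000000000000000010000000100c04000008020c02280401000000100420045000000008004080801020000002300363210090d50865460002200400a804008000000440200150000000080010088004200000023001a2310070d904664e800011200016000000230016ea4005bdf0367ef00000008000000000000000000100000100e0402808400080800020100050120001010000000002802c0020200001010005006000404000000000a285a48209497401955c45006004101800000288a858ac0a163740199441500060140480000020000a00000080000200000014000001000000000000a000002000002000000140000040000000000008220402080001010000104420041000000000002220c00a000008100000444200140000000000008888014200000022001733100b0dd006064942588800142c7819d2400020000000100c800000018080014250209da8001220000509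8044762000599a001427c0ddd0c000000200000100e0000000000000004230100240962204050b5406d63842588804142e481b9ac058000005002213088000008000000040221000000200000001004840000001820001028084a0000000680001060111800000000000000002000000000020000010040400000000800000400810000000020000010010408025888141427781b10400020000000000c84008005808000407420948a001620000401d04462a800588a00154740ddf2c000000200000000e04080018880010200000083000d13000805800415800050000014000000022002800000f09d0007440005800001404401910a000000000509c006701,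
    0x800a8880000000000023001f33200a08100672c080a80028000000000001015000500010080000200a80028000000000004017000500010040000a0802a02280000000081412a56245a0940067138a002280a800000000a3142a67215a09800671528200882800000000022706a332d0a0bce06f250002000002800000000000040000050000080000008000002800000000000100000050000080000000800000000000000000010000000100c840000080208022800000000001004100450100400080080808020200000023001a32300e0d40825060002200800a800000000000440300150100200080020088008200000023002e2330090d804460e80002220002a00000023002a6e600adde0377af00000008000000000000000000100000100e04028008000828000000000500300010500008040028008002028000000000500100040500004040022800802082a000000a2452a32241a5dc00653f0a800080a02a00000082152a21214a55c006631000a00000080000000000014000001000008000000a000002000000000000140000040000080000008220802080000000000104430041000040400002220800a000000000000444100140000204000008880028200000022002b33200d0dc006064a82000000000b380000000020000000100c000000028088028254219ca8002220200a09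9046722000aaaa80282780d9c0c000000200000100e0000000800000000230000280aa02280a0bc406f23882a88088282f081bcac0a800080a002013080000008000000040221000000200000001004840000002820002028084a0000000a800020601118000000000000000020000000000200000100404000000008000004008100000000200000100104000200002800203802c0000020000000000c0400800a808800807021958a002a20200801c04666a800a88a802a8700d9e2c000000200000000e04080028888020200000083000513300c058004118000a0000028000000022003c00000509c000704000a800802804001900a000000200a09c006701]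

def dM : List (List (List ℕ)) := [[[1, 0], [0, 1]], [[2, 0], [0, 1]], [[0, 1], [1, 0]], [[2, 1], [1, 2]]]

def dS : List (List ℕ) := [[2, 0, 1], [0, 2, 1], [0, 1, 2], [0, 2, 1]]

def dB : List (List ℕ) := [[0, 0], [1], [2], [3]]

def dP : List ℕ :=
  [1, 1, 3, 0, 0, 2, 2, 2, 3, 2, 3, 0, 0, 0, 4, 0, 0, 3, 2, 3, 4, 0, 0, 4, 0, 0, 4, 2, 2, 0, 0, 0, 0, 4, 0, 0, 3, 2,
    2, 2, 0, 3, 4, 0, 0, 4, 0, 0, 3, 4, 2, 0, 0, 0, 4, 2, 3, 0, 0, 4, 0, 0, 0, 4, 2, 2, 0, 3, 0, 0, 4, 4, 2, 0, 0,
    0, 0, 0, 4, 2, 3, 4, 0, 0, 4, 4, 0, 0, 0, 4, 2, 4, 0, 0, 4, 2, 0, 0, 0, 0, 0, 3, 2, 2, 2, 3, 0, 4, 0, 0, 3, 4,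
    0, 0, 4, 0, 0, 3, 4, 2, 3, 0, 0, 0, 0, 4, 2, 3, 0, 0, 4, 0, 0, 0, 4, 2, 2, 3, 0, 0, 3, 0, 4, 2, 0, 0, 0, 4, 4,
    2, 0, 0, 0, 0, 0, 4, 2, 2, 2, 3, 0, 4, 0, 0, 3, 2, 0, 0, 4, 0, 0, 3, 4, 0, 0, 4, 2, 0, 4, 0, 0, 0, 4, 2, 4, 2,
    0, 0, 0, 4, 2, 0, 0, 0, 0, 0, 2, 1, 2, 2, 3, 2, 3, 0, 0, 0, 4, 0, 0, 3, 2, 3, 4, 0, 0, 4, 0, 0, 4, 2, 2, 0, 0,
    0, 0, 4, 0, 0, 3, 2, 2, 2, 0, 3, 4, 0, 0, 4, 0, 0, 3, 4, 2, 0, 0, 0, 4, 2, 3, 0, 0, 4, 0, 0, 0, 4, 2, 2, 0, 3,
    0, 0, 4, 4, 2, 0, 0, 0, 0, 0, 4, 2, 3, 4, 0, 0, 4, 4, 0, 0, 0, 4, 2, 4, 0, 0, 4, 2, 0, 0, 0, 0, 0, 2, 2, 3, 2,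
    3, 0, 0, 0, 4, 0, 0, 3, 2, 3, 4, 0, 0, 4, 0, 0, 4, 2, 2, 0, 0, 0, 0, 4, 0, 0, 3, 2, 2, 2, 0, 3, 4, 0, 0, 4, 0,
    0, 3, 4, 2, 0, 0, 0, 4, 2, 3, 0, 0, 4, 0, 0, 0, 4, 2, 2, 0, 3, 0, 0, 4, 4, 2, 0, 0, 0, 0, 0, 4, 2, 3, 4, 0, 0,
    4, 4, 0, 0, 0, 4, 2, 4, 0, 0, 4, 2, 0, 0, 0, 0, 0, 3, 2, 1, 2, 2, 3, 0, 4, 0, 0, 3, 4, 0, 0, 4, 0, 0, 3, 4, 2,
    3, 0, 0, 0, 0, 4, 2, 3, 0, 0, 4, 0, 0, 0, 2, 2, 3, 0, 4, 0, 0, 3, 4, 0, 0, 4, 0, 0, 3, 4, 2, 3, 0, 0, 0, 0, 4,
    2, 3, 0, 0, 4, 0, 0, 0, 4, 1, 2, 2, 3, 0, 0, 3, 0, 4, 2, 0, 0, 0, 4, 4, 2, 0, 0, 0, 0, 2, 2, 3, 0, 0, 3, 0, 4,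
    2, 0, 0, 0, 4, 4, 2, 0, 0, 0, 0, 0, 4, 1, 2, 2, 2, 3, 0, 4, 0, 0, 3, 2, 0, 0, 4, 0, 0, 3, 4, 0, 0, 4, 2, 0, 4,
    0, 0, 0, 4, 2, 4, 2, 0, 0, 0, 4, 2, 0, 0, 0, 0, 2, 2, 2, 3, 0, 4, 0, 0, 3, 2, 0, 0, 4, 0, 0, 3, 4, 0, 0, 4, 2,
    0, 4, 0, 0, 0, 4, 2, 4, 2, 0, 0, 0, 4, 2]

def dP0 : List ℕ :=
  [1, 1, 1, 2, 1, 1, 1, 2, 0, 0, 2, 0, 0, 2, 0, 0, 0, 0, 2, 1, 1, 1, 2, 0, 0, 2, 0, 0, 2, 0, 0, 0, 0, 2, 1, 1, 1, 2,
    0, 0, 2, 0, 0, 2, 0, 0, 0, 0, 2, 1, 1, 1, 2, 0, 0, 2, 0, 0, 2]

def cR : Pc.Cert := ⟨[[], [2], [], [4], []], [[[], [3, 4], [4], [4], []], [[], [], [], [], []], [[], [], [], [],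
  []], [[], [], [], [], []], [[], [], [], [], []]],
  [([], [], []), ([], [], []), ([], [], []), ([0], [1], [4]), ([0], [2], [])]⟩

def w1 : List (List ℕ) :=
  [[1, 1, 1], [0, 0, 0, 0, 1, 1], [0, 0], [0, 0, 0, 0, 1, 1, 1, 1], [0, 0, 1], [0, 0, 1, 1, 1, 1], [0, 1, 1, 1], [0,
    0, 0, 1, 1, 1], [0, 0, 1, 1], [0, 0, 0, 1, 1], [0, 0, 1, 1, 1], [0, 0, 0, 0, 1, 1, 1], [0, 1], [0, 1, 1, 1, 1],
    [0, 0, 0, 1, 1, 1, 1], [], [0], [1], [1, 1, 1, 1], [0, 1, 1], [0, 0, 0, 0], [0, 0, 0, 0, 1], [0, 0, 0], [0, 0,
    0, 1], [1, 1]]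

def w2 : List (List ℕ) :=
  [[0, 0, 0, 0, 1, 1, 1, 1], [0, 0, 0, 1], [0, 0, 0], [0, 1, 1, 1], [0, 0, 1, 1, 1, 1], [0, 0, 0, 1, 1, 1, 1], [0,
    0], [0, 1], [0, 0, 0, 0, 1], [1, 1, 1], [1, 1, 1, 1], [1, 1], [1], [0, 0, 1], [0, 0, 0, 0, 1, 1, 1], [], [0, 0,
    1, 1], [0], [0, 1, 1], [0, 0, 1, 1, 1], [0, 0, 0, 1, 1, 1], [0, 0, 0, 0, 1, 1], [0, 0, 0, 1, 1], [0, 1, 1, 1,
    1], [0, 0, 0, 0]]

def cQ : Pc.Cert := ⟨[], [], []⟩

def wY : List (Fin 10) := [5, 4, 3, 7, 8, 2, 3, 7, 4, 5, 3, 4, 2, 3, 7, 8, 5, 4, 3, 7, 2, 3, 4, 1, 2, 3, 7, 5, 4, 3, 2, 1]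

def wH : List (Fin 10) := [1, 2, 3, 7, 8, 5, 4, 3, 2, 1]

def wG : List (Fin 10) := [7, 8, 5, 2, 3, 1]

theorem k0' : okW dD dW dC = true := by decide +kernel

theorem k1 : Pc.chk (eqv dC) 5 2 2 cQ = true := by decide +kernel

theorem k2 : dst dC 2 w1 = true := by decide +kernel

theorem k3 : Pc.chk (eqv (dC.drop 12)) 5 2 2 cQ = true := by decide +kernel

theorem k4 : dst (dC.drop 12) 2 w2 = true := by decide +kernel

theorem k5 : Pc.chk (eqv (dC.drop 7)) 2 5 3 cR = true := by decide +kernel

theorem k6 : ∀ i < 4, Pc.nrm (eqv dC) 2 [2 + i] (dM.getD i []) = true ∧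
    Pc.nrm (eqv (dC.drop 2)) 1 [i] [[i % 2 + 1]] = true ∧ autv dC [6] [2 + i] ((dB.getD i []).map (2 + ·)) = true ∧
    ∀ k < 3, eqv dC ((2 + i) :: List.replicate k 2)
      (List.replicate ((dS.getD i []).getD k 0) 2 ++ (dB.getD i []).map (2 + ·)) = true := by decide +kernel

theorem k7 : ∀ j < 2, eqv dC [j, 2] [2, j] = true ∧ autv dC [6] [j] [j] = true ∧
    eqv dC [12 + j, 14] [14, 12 + j] = true ∧ eqv dC [3 + j] [8 - j] = true := by decide +kernel

theorem k8 : eqv dC [2, 2, 2] [] = true ∧ eqv dC [2] [] = false ∧ eqv dC [14, 14, 14] [] = true ∧ eqv dC [14] [] = false ∧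
    eqv dC [4, 4] [] = true ∧ eqv dC [3, 3, 3, 3] [] = true ∧ eqv dC [3, 4] [10, 4, 3] = true ∧
    eqv dC [10, 10] [] = false ∧ eqv dC [0] [] = false := by decide +kernel

theorem k9 : ∀ j ∈ dW.getD 3 [], dW.getD (15 + j) [] = [j] ∧ eqv dC [3, 4, 15 + j, 4] [4, 15 + j, 4, 3] = true := by
  decide +kernel

theorem k10 : ∀ j ∈ dW.getD 3 [] ++ dW.getD 4 [], dW.getD (15 + j) [] = [j] ∧ autv dC [6] [15 + j] [15 + j] = true := by
  decide +kernel

section Fast

private noncomputable def lv (f : ℕ × ℕ → ℕ) (L : List (ℕ × ℕ)) : ℕ := List.rec 0 (fun c _ ih => Nat.add (Nat.mul 65536 ih) (f c)) L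

private theorem lv_cons (f : ℕ × ℕ → ℕ) (c : ℕ × ℕ) (L : List (ℕ × ℕ)) : lv f (c :: L) = 2 ^ 16 * lv f L + f c := rfl

private theorem lv_add (f g : ℕ × ℕ → ℕ) : ∀ L, Nat.add (lv f L) (lv g L) = lv (fun c => f c + g c) L
  | [] => rfl
  | c :: L => by rw [lv_cons, lv_cons, lv_cons, ← lv_add f g L, Nat.add_eq, Nat.add_eq]; ring

private theorem lv_mul (k : ℕ) (f : ℕ × ℕ → ℕ) : ∀ L, Nat.mul k (lv f L) = lv (fun c => k * f c) L
  | [] => rfl
  | c :: L => by rw [lv_cons, lv_cons, ← lv_mul k f L, Nat.mul_eq, Nat.mul_eq]; ring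

private theorem lv_mod (f : ℕ × ℕ → ℕ) : ∀ L, lv f L % 65535 = (L.map f).sum % 65535
  | [] => rfl
  | c :: L => by
    have h := lv_mod f L
    rw [lv_cons, List.map_cons, List.sum_cons]
    omega

private theorem lv_bit {op : ℕ → ℕ → ℕ} {b : Bool → Bool → Bool} (h : ∀ x y i, (op x y).testBit i = b (x.testBit i) (y.testBit i))
    (h0 : b false false = false) {f g : ℕ × ℕ → ℕ} (hf : ∀ c, f c < 2 ^ 16) (hg : ∀ c, g c < 2 ^ 16) :
    ∀ L, op (lv f L) (lv g L) = lv (fun c => op (f c) (g c)) L
  | [] => Nat.eq_of_testBit_eq fun i => (h 0 0 i).trans (by rw [Nat.zero_testBit, h0]; exact (Nat.zero_testBit i).symm)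
  | c :: L => Nat.eq_of_testBit_eq fun i => by
    have h1 : op (f c) (g c) < 2 ^ 16 := Nat.lt_pow_two_of_testBit _ fun j hj => by
      rw [h, Nat.testBit_lt_two_pow ((hf c).trans_le (Nat.pow_le_pow_right two_pos hj)),
        Nat.testBit_lt_two_pow ((hg c).trans_le (Nat.pow_le_pow_right two_pos hj)), h0]
    rw [h, lv_cons, lv_cons, lv_cons, Nat.testBit_two_pow_mul_add _ (hf c), Nat.testBit_two_pow_mul_add _ (hg c),
      Nat.testBit_two_pow_mul_add _ h1, ← lv_bit h h0 hf hg L, h, h]
    split_ifs <;> rfl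

private theorem lv_and {f g : ℕ × ℕ → ℕ} (hf : ∀ c, f c < 2 ^ 16) (hg : ∀ c, g c < 2 ^ 16) (L : List (ℕ × ℕ)) :
    Nat.land (lv f L) (lv g L) = lv (fun c => f c &&& g c) L := lv_bit (op := Nat.land) (b := and) Nat.testBit_and rfl hf hg L

private theorem lv_xor {f g : ℕ × ℕ → ℕ} (hf : ∀ c, f c < 2 ^ 16) (hg : ∀ c, g c < 2 ^ 16) (L : List (ℕ × ℕ)) :
    Nat.xor (lv f L) (lv g L) = lv (fun c => f c ^^^ g c) L := lv_bit (op := Nat.xor) (b := xor) Nat.testBit_xor rfl hf hg L

private noncomputable def lq (O a b : ℕ) : ℕ :=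
  Nat.xor O (Nat.div (Nat.land (Nat.add (Nat.xor a b) (Nat.mul 4095 O)) (Nat.mul 4096 O)) 4096)

private theorem ind_lt (b : Bool) : cond b 1 0 < 2 ^ 16 := by cases b <;> decide

private theorem lq_eq {f g : ℕ × ℕ → ℕ} (hf : ∀ c, f c < 4096) (hg : ∀ c, g c < 4096) (L : List (ℕ × ℕ)) :
    lq (lv (fun _ => 1) L) (lv f L) (lv g L) = lv (fun c => cond (Nat.beq (f c) (g c)) 1 0) L := by
  have h1 : ∀ c, f c ^^^ g c < 4096 := fun c => Nat.xor_lt_two_pow (n := 12) (hf c) (hg c)
  have h2 : ∀ c, (f c ^^^ g c) + 4095 * 1 &&& 4096 * 1 = 4096 * cond (Nat.beq (f c) (g c)) 0 1 := fun c => by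
    have h3 := h1 c
    refine (Nat.and_two_pow _ 12).trans ?_
    rw [Nat.testBit_eq_decide_div_mod_eq]
    by_cases e : f c = g c
    · rw [e, Nat.xor_self, Nat.beq_refl]; rfl
    · have h4 : f c ^^^ g c ≠ 0 := fun e' => e (Nat.eq_of_xor_eq_zero e')
      rw [decide_eq_true (by omega), Bool.eq_false_iff.2 fun e' => e (Nat.eq_of_beq_eq_true e')]; rfl
  rw [lq, lv_xor (fun c => (hf c).trans (by decide)) (fun c => (hg c).trans (by decide)), lv_mul, lv_mul, lv_add,
    lv_and (fun c => by have := h1 c; omega) (fun _ => by decide), funext h2, ← lv_mul]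
  refine (congrArg (Nat.xor _) (Nat.mul_div_cancel_left _ (by decide))).trans ((lv_xor (fun _ => by decide) (fun c => ?_) L).trans
    (congrArg (lv · L) (funext fun c => ?_))) <;> cases Nat.beq (f c) (g c) <;> decide

private def un (c : ℕ × ℕ) : ℕ := Nat.shiftRight c.1 64

private noncomputable def col (L : List (ℕ × ℕ)) (x : ℕ) : ℕ := lv (fun c => get (un c) x) L

private noncomputable def lm (L : List (ℕ × ℕ)) (x v : ℕ) : ℕ := lq (lv (fun _ => 1) L) (col L x) (Nat.mul v (lv (fun _ => 1) L))

private theorem lm_eq (L : List (ℕ × ℕ)) (x : ℕ) {v : ℕ} (hv : v < 4096) : lm L x v = lv (fun c => cond (Nat.beq (get (un c) x) v) 1 0) L := by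
  rw [lm, col, lv_mul, lq_eq (fun _ => get_lt _ _) (fun _ => by omega), mul_one]

private noncomputable def lt' (L : List (ℕ × ℕ)) (t y D : ℕ) : ℕ :=
  Nat.rec 0 (fun v acc => Nat.add acc (Nat.mul (get t v) (lm L y v))) D

private theorem lv_zero : ∀ L, lv (fun _ => 0) L = 0
  | [] => rfl
  | c :: L => by rw [lv_cons, lv_zero L]; rfl

private theorem lt_eq (L : List (ℕ × ℕ)) (t y : ℕ) : ∀ D ≤ 4096,
    lt' L t y D = lv (fun c => if get (un c) y < D then get t (get (un c) y) else 0) L
  | 0, _ => (lv_zero L).symm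
  | D + 1, h => by
    refine (congrArg₂ Nat.add (lt_eq L t y D (by omega)) (congrArg (Nat.mul _) (lm_eq L y (by omega)))).trans ?_
    rw [lv_mul, lv_add]
    refine congrArg (lv · L) (funext fun c => ?_)
    by_cases e : get (un c) y = D
    · rw [e, Nat.beq_refl, if_neg (lt_irrefl _), if_pos (Nat.lt_succ_self _), cond_true, mul_one, zero_add]
    · rw [Bool.eq_false_iff.2 fun e' => e (Nat.eq_of_beq_eq_true e'), cond_false, mul_zero, add_zero]
      exact if_congr (by omega) rfl rfl

private noncomputable def lc (D t : ℕ) (L bl : List (ℕ × ℕ)) : ℕ :=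
  List.rec (lv (fun _ => 1) L) (fun e _ ih => Nat.land (lq (lv (fun _ => 1) L) (col L e.2) (lt' L t e.1 D)) ih) bl

private theorem lc_eq {D t : ℕ} (hD : D ≤ 4096) (ht : t < 4096 ^ D) (L : List (ℕ × ℕ)) :
    ∀ bl, lc D t L bl = lv (fun c => cond (allB t (un c) bl) 1 0) L
  | [] => rfl
  | e :: bl => by
    have h1 : lt' L t e.1 D = lv (fun c => get t (get (un c) e.1)) L := (lt_eq L t e.1 D hD).trans (congrArg (lv · L) (funext fun c => by
      split_ifs with h
      · rfl
      · rw [get_eq t, Nat.div_eq_of_lt (ht.trans_le (Nat.pow_le_pow_right (by decide) (not_lt.1 h)))]))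
    refine (congrArg₂ Nat.land (by rw [h1, col, lq_eq (fun _ => get_lt _ _) fun _ => get_lt _ _]) (lc_eq hD ht L bl)).trans
      ((lv_and (fun _ => ind_lt _) (fun _ => ind_lt _) L).trans (congrArg (lv · L) (funext fun c => ?_)))
    show _ = cond (Bool.rec (motive := fun _ => Bool) false (allB t (un c) bl) (Nat.beq (get (un c) e.2) (get t (get (un c) e.1)))) 1 0
    cases Nat.beq (get (un c) e.2) (get t (get (un c) e.1)) <;> cases allB t (un c) bl <;> rfl

private noncomputable def ls (K : ℕ) (L fl : List (ℕ × ℕ)) : ℕ :=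
  List.rec 0 (fun e _ ih => Nat.add (Nat.land K (lm L e.2 e.1)) ih) fl

private theorem ls_eq (p : ℕ × ℕ → Bool) (L : List (ℕ × ℕ)) : ∀ fl : List (ℕ × ℕ), (∀ e ∈ fl, e.1 < 4096) →
    ls (lv (fun c => cond (p c) 1 0) L) L fl = lv (fun c => if p c then cntF (un c) fl else 0) L
  | [], _ => (lv_zero L).symm.trans (congrArg (lv · L) (funext fun _ => (ite_self _).symm))
  | e :: fl, h => by
    refine (congrArg₂ Nat.add (by rw [lm_eq L _ (h e List.mem_cons_self), lv_and (fun _ => ind_lt _) fun _ => ind_lt _])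
      (ls_eq p L fl fun x hx => h x (List.mem_cons_of_mem _ hx))).trans ((lv_add _ _ L).trans (congrArg (lv · L) (funext fun c => ?_)))
    show _ = if p c then Bool.rec (motive := fun _ => ℕ) (cntF (un c) fl) (cntF (un c) fl + 1) (Nat.beq (get (un c) e.2) e.1) else 0
    cases Nat.beq (get (un c) e.2) e.1 <;> cases p c
    exacts [rfl, Nat.zero_add _, rfl, Nat.add_comm _ _]

private noncomputable def innerF (D : ℕ) (S L : List (ℕ × ℕ)) (t : ℕ) (bl fl : List (ℕ × ℕ)) : ℕ :=
  cond (Nat.ble D 4096 && Nat.blt t (Nat.pow 4096 D) && Nat.blt (Nat.mul L.length fl.length) 65535 && fl.all fun e => Nat.blt e.1 4096)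
    (Nat.mod (MO.L.frc (lc D t S bl) fun K => ls K S fl) 65535) (MO.L.inner t bl fl L)

private def sal (c : ℕ × ℕ) : ℕ := Nat.add (Nat.mul 18446744073709551616 c.1) (Nat.mod c.1 18446744073709551557)

private theorem un_sal (c : ℕ × ℕ) : un (sal c, 0) = c.1 := by
  show (18446744073709551616 * c.1 + c.1 % 18446744073709551557) >>> 64 = c.1
  rw [Nat.shiftRight_eq_div_pow]
  omega

private theorem inner_fast (D : ℕ) (L : List (ℕ × ℕ)) :
    innerF D (L.map fun c => (sal c, 0)) L = fun t bl fl => MO.L.inner t bl fl L := by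
  funext t bl fl
  rw [innerF]
  cases h : (Nat.ble D 4096 && Nat.blt t (Nat.pow 4096 D) && Nat.blt (Nat.mul L.length fl.length) 65535 && fl.all fun e => Nat.blt e.1 4096)
  · rfl
  · simp only [Bool.and_eq_true, Nat.blt_eq, Nat.ble_eq, List.all_eq_true] at h
    rw [cond_true, MO.L.frc_eq, lc_eq h.1.1.1 h.1.1.2, ls_eq _ _ fl h.2, inner_eq]
    refine (lv_mod _ _).trans ?_
    simp only [List.map_map, Function.comp_def, un_sal]
    refine Nat.mod_eq_of_lt (lt_of_le_of_lt ?_ h.1.2)
    refine (List.sum_le_card_nsmul _ fl.length fun x hx => ?_).trans (by rw [List.length_map]; rfl)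
    obtain ⟨c, -, rfl⟩ := List.mem_map.1 hx
    split_ifs
    · rw [cntF_eq]
      exact List.countP_le_length
    · exact Nat.zero_le _

private noncomputable def slK (L : List (ℕ × ℕ)) : (List (ℕ × ℕ) → Bool) → Bool :=
  List.rec (fun k => k []) (fun c _ ih k => MO.L.frc (sal c) fun s => ih fun r => k ((s, 0) :: r)) L

private theorem slK_eq : ∀ L k, slK L k = k (L.map fun c => (sal c, 0))
  | [], _ => rfl
  | c :: L, k => (MO.L.frc_eq (sal c) fun s => slK L fun r => k ((s, 0) :: r)).trans (slK_eq L _)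

private noncomputable def outG (I : ℕ → List (ℕ × ℕ) → List (ℕ × ℕ) → ℕ) (P μ : ℕ) (base : List ℕ) (L : List (ℕ × ℕ)) : ℕ :=
  List.rec 0 (fun a _ ih => Nat.add (fixK a.1 μ (fun fl => baseK a.2 (fun bl => I a.1 bl fl) base []) P []) ih) L

private noncomputable def chkF (D P : ℕ) (base : List ℕ) (gens : List (ℕ × ℕ)) (μ : ℕ) (prog : List ℕ) (n c : ℕ) : Bool :=
  lst D gens prog fun L => slK L fun S => Nat.beq L.length n && ndp L && Nat.beq (outG (innerF D S L) P μ base L) c

private theorem chk_fast : MO.L.chk = chkF := by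
  funext D P base gens μ prog n c
  refine congrArg (lst D gens prog) (funext fun L => ?_)
  rw [slK_eq, inner_fast]
  rfl

end Fast

theorem k11 : chkE 5 2 3 4 dM dS (idW 4) (idM 2) dP 288 36 = true := by
  delta chkE
  rw [chk_fast]
  decide +kernel

theorem k12 : chkE 5 2 3 4 dM dS dB (idM 2) dP 288 28 = true := by
  delta chkE
  rw [chk_fast]
  decide +kernel

theorem k13 : chkM 5 2 [dM.getD 1 [], dM.getD 2 []] (idM 2) dP0 32 20 = true := by decide +kernel

theorem k14 : TwoESix.Cox10.chk (wH ++ wY ++ wH.reverse) (rep 10 spider ++ (wG ++ rep 10 spider ++ wG.reverse) ++ wY) = true := by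
  decide +kernel

end Cfsg.Agent.MO.S.E62N
end

-- part: MO/S/E62N/Five
section
/-!
# MO, the covers of `²E₆(2)` of degree two and six, `p = 5` : the local numbers (helper14)

* `Loc5`, `loc5` : the normaliser of the Sylow subgroup of the simple group;
* `five_two : LK 5 2 HB 36 ∧ LF 5 2 HB 28`, `five_six : LK 5 6 HB 20`.
-/

set_option autoImplicit false

namespace Cfsg.Agent.MO.S.E62N

open Cfsg Subgroup Cfsg.Agent.MO.T Cfsg.Agent.MO.L Cfsg.Agent.MO.S.E62C Cfsg.Agent.MO.S.Pc Cfsg.Agent.BabyU.OutFree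
open Cfsg.Agent.TwoESix Cfsg.Agent.TwoESix.Lift Cfsg.Agent.TwoESix.Cover Cfsg.Agent.Lib.F2MatGroup
open Cfsg.Agent.H66.TwESixCover
open Cfsg.Agent.MK.S.Pc (ev ev_nil ev_cons ev_append V mem_V V_le)
open scoped commutatorElement Pointwise

instance fact5 : Fact (Nat.Prime 5) := ⟨Nat.prime_five⟩

instance fact3 : Fact (Nat.Prime 3) := ⟨Nat.prime_three⟩

/-- the points of the twisted conjugation -/
def Tws (_ : MulAut HB) : Type := HB

noncomputable instance twsAct (β : MulAut HB) : MulAction HB (Tws β) where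
  smul g x := @id HB (g * @id HB x * (β g)⁻¹)
  one_smul x := by
    change 1 * @id HB x * (β 1)⁻¹ = @id HB x
    simp
  mul_smul a b x := by
    change a * b * @id HB x * (β (a * b))⁻¹ = a * (b * @id HB x * (β b)⁻¹) * (β a)⁻¹
    simp only [mul_assoc, _root_.map_mul, _root_.mul_inv_rev]

theorem card_sup_le {G : Type} [Group G] [Finite G] {A B : Subgroup G} (h : A ≤ normalizer (B : Set G)) :
    Nat.card (A ⊔ B : Subgroup G) ≤ Nat.card A * Nat.card B := by
  change Nat.card ((A ⊔ B : Subgroup G) : Set G) ≤ _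
  rw [coe_mul_of_left_le_normalizer_right A B h]
  exact Set.natCard_mul_le

theorem cent75 {a b : HB} (hab : Commute b a) (hb : b ^ 5 = 1) (ha : a ^ 5 = 1) (hn : b ∉ zpowers a) (h1 : a ≠ 1) :
    Nat.card (centralizer ({a, b} : Set HB)) ≤ 75 := by
  obtain ⟨K, _, _, hK⟩ := exists_four
  obtain ⟨e⟩ := E62C.eqv K hK
  have := Finite.of_equiv _ e.toEquiv
  have h2 : e a ^ 5 = 1 := by rw [← map_pow, ha, map_one]
  have h3 := e.map_ne_one_iff.2 h1
  obtain ⟨f⟩ := (H898.TE6Main.main hK).2 (e a) (orderOf_eq_prime h2 h3)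
  rw [← card_map_of_injective (f := e.toMonoidHom) e.injective]
  refine (card_le_of_le ((map_centralizer_le_centralizer_image _ _).trans (by rw [Set.image_pair]; rfl))).trans
    (card_cent_five (hab.map e) (by rw [← map_pow, hb, map_one]) h2 (fun ⟨k, hk⟩ => hn ⟨k, e.injective ?_⟩) h3 f)
  exact (map_zpow e a k).trans hk

theorem ev_one (y : ℕ → HB) (i : ℕ) : ev y [i] = y i := mul_one _

theorem ev_two (y : ℕ → HB) (i j : ℕ) : ev y [i, j] = y i * y j := congrArg _ (mul_one _)

theorem ev_shift (y : ℕ → HB) (k : ℕ) (w : List ℕ) : ev y (w.map (k + ·)) = ev (fun i => y (k + i)) w :=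
  congrArg List.prod List.map_map

theorem syl5 {y : ℕ → HB} {C : List ℕ} {w : List (List ℕ)} (md : Md y C) (h1 : Pc.chk (eqv C) 5 2 2 cQ = true)
    (h2 : dst C 2 w = true) (h3 : w.length = 5 ^ 2) : Loc 5 2 (V y 2 0) y ∧ Nat.card (V y 2 0) = 5 ^ 2 ∧
      ∃ Q : Sylow 5 HB, (Q : Subgroup HB) = V y 2 0 :=
  have h4 := h3.ge.trans (md.card_ge h2)
  ⟨loc_of_chk md.eq h1 rfl h4, (pc_of_chk md.eq h1).card_zero h4,
    (pc_of_chk md.eq h1).sylow h4 (o := 3061299187350994157568) (card_HB.trans (by norm_num)) (by norm_num)⟩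

/-- the normaliser of the Sylow subgroup -/
structure Loc5 (y : ℕ → HB) (β : MulAut HB) (Q N R : Subgroup HB) : Prop where
  syl : ∃ P : Sylow 5 HB, (P : Subgroup HB) = Q
  mem : ∀ i < 4, y (2 + i) ∈ N
  stab : ∀ x ∈ Q, β x ∈ Q
  ord : orderOf (y 2) = 3
  cN : Nat.card N = 7200
  kN : k0 5 N = 36
  fN : fN 5 N β = 28
  nE : N ≤ normalizer (zpowers (y 2) : Set HB)
  cen : ∀ t ∈ centralizer (Q : Set HB), t ^ 3 = 1 → t ∈ zpowers (y 2)
  cR : Nat.card R = 32
  cT : Nat.card (R ⊔ Q : Subgroup HB) = 800
  kT : k0 5 (R ⊔ Q : Subgroup HB) = 20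

theorem loc5 {y : ℕ → HB} (md : Md y dC) :
    Loc5 y (MulAut.conj (y 6) * ar 3) (V y 2 0) (normalizer (V y 2 0 : Set HB)) (_root_.Subgroup.closure {y 3, y 4}) := by
  obtain ⟨lc, cQ', P, hP⟩ := syl5 md k1 k2 rfl
  have pc := pc_of_chk md.eq k1
  have be : ∀ v w, autv dC [6] v w = true → (MulAut.conj (y 6) * ar 3) (ev y v) = ev y w := fun v w e =>
    ev_one y 6 ▸ md.aut [6] v w e
  generalize MulAut.conj (y 6) * ar 3 = β at be ⊢
  have b1 : ∀ j < 2, β (y j) = y j := fun j hj => ev_one y j ▸ be _ _ (k7 j hj).2.1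
  have b2 : ∀ i < 4, β (y (2 + i)) = ev (fun i => y (2 + i)) (dB.getD i []) := fun i hi =>
    ev_one y (2 + i) ▸ ev_shift y 2 _ ▸ be _ _ (k6 i hi).2.2.1
  have st : ∀ x ∈ V y 2 0, β x ∈ V y 2 0 := fun x hx =>
    V_le (H := (V y 2 0).comap β.toMonoidHom) (fun j h1 h2 => by
      change β (y j) ∈ V y 2 0
      rw [b1 j h2]
      exact mem_V h1 h2) hx
  have hg : ∀ i < 4, y (2 + i) ∈ normalizer (V y 2 0 : Set HB) := fun i hi => ev_one y (2 + i) ▸ nrm_mem md.eq (k6 i hi).1
  have hM : ∀ i < 4, Mt 2 (V y 2 0) y (fun x => y (2 + i) * x * (y (2 + i))⁻¹) (dM.getD i []) := fun i hi =>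
    ev_one y (2 + i) ▸ mt_of_nrm md.eq k1 (k6 i hi).1
  have o3 : orderOf (y 2) = 3 := orderOf_eq_prime ((ev_replicate y 2 3).symm.trans (md.eq _ _ k8.1))
    (ev_one y 2 ▸ md.ne _ _ k8.2.1)
  have yC : V y 2 0 ≤ centralizer {y 2} := V_le fun j _ hj =>
    mem_centralizer_singleton_iff.2 (ev_two y j 2 ▸ ev_two y 2 j ▸ md.eq _ _ (k7 j hj).1)
  have nE : ∀ i < 4, y (2 + i) ∈ normalizer (zpowers (y 2) : Set HB) := fun i hi => by
    have h1 := nrm_mem (md.drop 2).eq (k6 i hi).2.1
    rwa [ev_one, PC.last 0 rfl] at h1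
  have cm : ∀ a ∈ V y 2 0, ∀ b ∈ V y 2 0, a * b = b * a := fun a ha b hb => commutatorElement_eq_one_iff_mul_comm.1
    (mem_bot.1 (V_le (k := 2) (fun i h1 h2 => absurd h2 (not_lt.2 h1)) (pc.comm_le (commutator_mem_commutator ha hb))))
  have ex : ∀ a ∈ V y 2 0, a ^ 5 = 1 := fun a ha => mem_bot.1 (V_le (k := 2) (fun i h1 h2 => absurd h2 (not_lt.2 h1))
    (pc.comm_le (exp_of_chk md.eq k1 rfl a ha)))
  have m0 : y 0 ∈ V y 2 0 := mem_V le_rfl two_pos
  have m1 : y 1 ∈ V y 2 0 := mem_V zero_le_one one_lt_two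
  have n0 : y 0 ≠ 1 := ev_one y 0 ▸ md.ne _ _ k8.2.2.2.2.2.2.2.2
  have cC : Nat.card (centralizer (V y 2 0 : Set HB)) ≤ 75 := (card_le_of_le (centralizer_le (Set.pair_subset m0 m1))).trans
    (cent75 (cm _ m1 _ m0) (ex _ m1) (ex _ m0) (fun h => by
      have h1 := card_le_of_le (V_le (g := y) (n := 2) (k := 0) (H := zpowers (y 0)) fun j _ hj => by
        interval_cases j
        exacts [mem_zpowers _, h])
      rw [cQ', Nat.card_zpowers, orderOf_eq_prime (ex _ m0) n0] at h1
      omega) n0)
  have cN : Nat.card (normalizer (V y 2 0 : Set HB)) ≤ Nat.card (V y 2 0) * 288 := by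
    have h1 := card_norm_le P (hP ▸ cQ') (hP ▸ cm) (hP ▸ ex)
    rw [hP] at h1
    omega
  have hω : ∀ k < 3, ∀ k' < 3, @id (Tws β) (y 2 ^ k) = @id (Tws β) (y 2 ^ k') → k = k' := fun k h1 k' h2 e =>
    pow_injOn_Iio_orderOf (x := y 2) (o3 ▸ h1) (o3 ▸ h2) e
  have hσ : ∀ i < 4, ∀ k < 3, y (2 + i) • @id (Tws β) (y 2 ^ k) = @id (Tws β) (y 2 ^ (dS.getD i []).getD k 0) :=
    fun i hi k hk => by
      have h1 := md.eq _ _ ((k6 i hi).2.2.2 k hk)
      rw [ev_cons, ev_append, ev_replicate, ev_replicate, ev_shift, ← b2 i hi] at h1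
      exact mul_inv_eq_of_eq_mul h1
  obtain ⟨h1, h2⟩ := k0_of_chkE lc (le_inf le_normalizer (yC.trans ((centralizer_closure _).ge.trans
    (zpowers_eq_closure (y 2) ▸ centralizer_le_normalizer _)))) inf_le_left ((card_le_of_le inf_le_left).trans cN)
    (fun i hi => ⟨hg i hi, nE i hi⟩) hM hω hσ k11
  have h3 := eq_of_le_of_card_ge inf_le_left (cN.trans h2.ge)
  rw [h3] at h1 h2
  have h4 : _root_.Subgroup.closure {y 3, y 4} ≤ normalizer (V y 2 0 : Set HB) :=
    (closure_le _).2 (Set.pair_subset (hg 1 (by norm_num)) (hg 2 (by norm_num)))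
  have h5 : Nat.card (closure {y 3, y 4} : Subgroup HB) ≤ 2 ^ (5 - 0) :=
    (card_le_of_le ((closure_le _).2 (Set.pair_subset
      (ev_one y 3 ▸ md.eq _ _ (k7 0 two_pos).2.2.2 ▸ (ev_one y 8).symm ▸ mem_V (i := 1) zero_le_one (by norm_num))
      (ev_one y 4 ▸ md.eq _ _ (k7 1 one_lt_two).2.2.2 ▸ (ev_one y 7).symm ▸ mem_V (i := 0) le_rfl (by norm_num))))).trans
      ((pc_of_chk (md.drop 7).eq k5).card_le (Nat.zero_le 5))
  have h6 := card_sup_le h4
  obtain ⟨h7, h8⟩ := fN_card_of_chk lc le_sup_right (sup_le h4 le_normalizer) 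
    (h6.trans ((Nat.mul_le_mul_right _ h5).trans (mul_comm _ _).le)) (by
    simp only [List.forall_mem_cons, List.not_mem_nil, false_imp_iff, implies_true, and_true]
    exact ⟨⟨_, mem_sup_left (_root_.Subgroup.subset_closure (by simp)), hM 1 (by norm_num)⟩,
      _, mem_sup_left (_root_.Subgroup.subset_closure (by simp)), hM 2 (by norm_num)⟩) (fun _ => Iff.rfl) (fun _ => Iff.rfl) lc.mt_one k13
  rw [cQ'] at h2 h6 h8
  refine ⟨⟨P, hP⟩, hg, st, o3, h2, h1, fN_of_chkE lc le_normalizer le_rfl cN hg hM hω hσ (MK.T.stab_of_le st)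
    (MK.T.stab_norm (MK.T.stab_of_le st)) (fun j hj => (b1 j hj).symm ▸ lc.mt_one j hj)
    (fun i hi => by rw [b2 i hi, inv_mul_cancel]; exact one_mem _) k12, h3.ge.trans inf_le_right, fun t ht h9 => ?_,
    by omega, h8, (fN_one _).symm.trans h7⟩
  have h10 : zpowers (y 2) ≤ centralizer (V y 2 0 : Set HB) :=
    zpowers_le.2 fun x hx => mem_centralizer_singleton_iff.1 (yC hx)
  have := normal_subgroupOf_of_le_normalizer ((centralizer_le_normalizer _).trans (h3.ge.trans inf_le_right))
  have h11 := ((zpowers (y 2)).subgroupOf (centralizer (V y 2 0 : Set HB))).card_mul_index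
  have h12 := card_dvd_of_le (show V y 2 0 ≤ centralizer (V y 2 0 : Set HB) from fun a ha b hb => cm b hb a ha)
  have h13 := pow_index_mem (H := (zpowers (y 2)).subgroupOf (centralizer (V y 2 0 : Set HB))) ⟨t, ht⟩
  have h14 := Nat.card_pos (α := centralizer (V y 2 0 : Set HB))
  rw [Nat.card_congr (subgroupOfEquivOfLe h10).toEquiv, Nat.card_zpowers, o3] at h11
  rw [cQ'] at h12
  rw [show index _ = 3 * 8 + 1 by (clear * - cC h11 h12 h14; solve | lia | omega), mem_subgroupOf, coe_pow, pow_succ, pow_mul, h9, one_pow, one_mul] at h13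
  exact h13

theorem md5 : Md (lt s0 dD dW) dC := md_of_ok k0'

variable {X : Type} [Group X] {φ : X →* HB} {s : Fin 10 → X}

theorem tw5 (h : Fr φ s) : Tw φ (lt s dD dW 3) (lt s dD dW 4) := by
  have h1 := md5.eq _ _ k8.2.2.2.2.1
  have h2 := md5.eq _ _ k8.2.2.2.2.2.2.1
  have h3 := md5.ne _ _ k8.2.2.2.2.2.2.2.1
  rw [ev_two, ev_nil] at h1 h3
  rw [ev_two, ev_cons, ev_two] at h2
  refine tw_wr h.ker (h.comm_lt (k := 15) fun j hj => ⟨(k9 j hj).1, ?_⟩) (h.map_lt 4 ▸ h1)
    (h.map_lt 3 ▸ (ev_replicate _ 3 4).symm.trans (md5.eq _ _ k8.2.2.2.2.2.1)) ?_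
  · have h4 := md5.eq _ _ (k9 j hj).2
    rw [ev_cons, ev_cons, ev_two, ev_cons, ev_cons, ev_two] at h4
    rw [h.map_lt, h.map_lt, inv_eq_of_mul_eq_one_left h1, Commute, SemiconjBy, mul_assoc, mul_assoc, mul_assoc, h4]
  · rwa [h.map_lt, h.map_lt, commutatorElement_def, h2, mul_assoc, mul_assoc, mul_assoc, mul_inv_cancel_left, mul_inv_cancel,
      mul_one, pow_two]

/-- **the double covers** -/
theorem five_two : LK 5 2 HB 36 ∧ LF 5 2 HB 28 := by
  have h := loc5 md5
  obtain ⟨Q, hQ⟩ := h.syl
  rw [← hQ] at h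
  exact two_of Q (k := 15) (h.mem 1 (by norm_num)) (h.mem 2 (by norm_num)) (fun _ _ _ _ => tw5)
    (nd_relIndex Nat.prime_two ((closure_le _).2 (Set.pair_subset (h.mem 1 (by norm_num)) (h.mem 2 (by norm_num))))
      (t := 5) (o := 225) h.cR.symm.dvd h.cN (by norm_num)) h.kN h.stab h.fN
    fun j hj => ⟨(k10 j hj).1, by simpa only [ev_one] using md5.aut [6] _ _ (k10 j hj).2⟩

theorem lt_nodes (w : List (Fin 10)) : evG (dl s dD) (w.map Fin.val) = Cox10.ev s w := by
  induction w with
  | nil => rfl
  | cons i w ih =>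
    rw [List.map_cons, evG_cons, ih, Cox10.ev_cons]
    congr 1
    fin_cases i <;> exact mul_one _

theorem comm_cop [Finite X] (hk : φ.ker = center X) {x y : X} {m : ℕ} (hx : x ^ m = 1) (hm : m.Coprime (Nat.card (center X)))
    (h : φ x * φ y = φ y * φ x) : x * y = y * x := by
  obtain ⟨z, hz, e⟩ := cen_of hk (x := y * x * y⁻¹) (y := x) (by rw [map_mul, map_mul, ← h, map_inv, mul_inv_cancel_right])
  have h1 := congrArg (· ^ m) e
  simp only [conj_pow, (show Commute x z from mem_center_iff.1 hz x).mul_pow, hx, mul_one, one_mul, mul_inv_cancel] at h1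
  rw [orderOf_eq_one_iff.1 (Nat.eq_one_of_dvd_coprimes hm (orderOf_dvd_of_pow_eq_one h1.symm)
    ((center X).orderOf_dvd_natCard hz)), mul_one] at e
  exact (mul_inv_eq_iff_eq_mul.1 e).symm

/-- **the sixfold covers** -/
theorem five_six : LK 5 6 HB 20 := fun X _ _ _ v _ => by
  obtain ⟨φ, s, f⟩ := exists_f6 v
  have h := loc5 md5
  obtain ⟨Q, hQ⟩ := h.syl
  rw [← hQ] at h
  obtain ⟨P, h1, h2⟩ := f.sylow Q
  obtain ⟨-, -, Q', hQ'⟩ := syl5 (md5.drop 12) k3 k4 rfl
  obtain ⟨g, hg⟩ := MulAction.exists_smul_eq HB Q' Q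
  obtain ⟨g, rfl⟩ := f.surj g
  have h3 : φ (Cox10.ev s wY) = lt s0 dD dW 14 := (f.map_ev wY).trans (lt_nodes wY).symm
  have h4 := Cox10.ev_eq_ev f.lift k14
  simp only [Cox10.ev_append, Cox10.ev_rep, Cox10.ev_reverse f.lift] at h4
  rw [mem_center_iff.1 f.spider (Cox10.ev s wG), mul_inv_cancel_right,
    ← mem_center_iff.1 (mul_mem f.spider f.spider)] at h4
  have h5 := mul_mem f.spider f.spider
  have h6 := f.ne
  generalize Cox10.ev s Cox10.spider ^ 10 * Cox10.ev s Cox10.spider ^ 10 = w at h4 h5 h6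
  have h7 : φ (g * Cox10.ev s wY * g⁻¹) ^ 3 = 1 := by
    rw [map_mul, map_mul, map_inv, conj_pow, h3, ← ev_replicate, md5.eq (List.replicate 3 14) _ k8.2.2.1, ev_nil, mul_one,
      mul_inv_cancel]
  have h8 : φ (g * Cox10.ev s wY * g⁻¹) ≠ 1 := by
    rw [map_mul, map_mul, map_inv, h3, Ne, conj_eq_one_iff, ← ev_one (lt s0 dD dW) 14]
    exact md5.ne _ _ k8.2.2.2.1
  have h9 : φ (g * Cox10.ev s wY * g⁻¹) ∈ centralizer ((Q : Subgroup HB) : Set HB) := fun x hx => by
    rw [← hg, Sylow.coe_subgroup_smul, hQ'] at hx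
    obtain ⟨u, hu, rfl⟩ := (mem_smul_pointwise_iff_exists _ _ _).1 hx
    rw [map_mul, map_mul, map_inv, h3, MulAut.smul_def, MulAut.conj_apply, conj_mul, conj_mul,
      mem_centralizer_singleton_iff.1 (V_le (H := centralizer {lt s0 dD dW 14}) (fun j _ hj =>
        mem_centralizer_singleton_iff.2 (ev_two _ (12 + j) 14 ▸ ev_two _ 14 (12 + j) ▸ md5.eq _ _ (k7 j hj).2.2.1)) hu)]
  have h10 : (g * Cox10.ev s wH * g⁻¹)⁻¹⁻¹ * (g * Cox10.ev s wY * g⁻¹) * (g * Cox10.ev s wH * g⁻¹)⁻¹ =
      g * Cox10.ev s wY * g⁻¹ * w := by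
    rw [inv_inv, conj_mul, conj_inv, conj_mul, h4, ← mul_assoc, mul_assoc _ w, mul_assoc _ g⁻¹, mem_center_iff.1 h5]
  generalize g * Cox10.ev s wY * g⁻¹ = Y at h7 h8 h9 h10
  have h11 : Y ∈ centralizer (P : Set X) := fun x hx => by
    obtain ⟨k, hk⟩ := P.isPGroup' ⟨x, hx⟩
    exact comm_cop f.ker (congrArg Subtype.val hk) (Nat.Coprime.pow_left k (by rw [v.card]; norm_num))
      (h9 _ (h1 ▸ mem_map_of_mem φ hx))
  obtain ⟨n, h12, h13⟩ := P.conj_eq_normalizer_conj_of_mem_centralizer Y _ h11 (h10 ▸ mul_mem h11 (center_le_centralizer _ h5))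
  have h14 : zpowers (φ Y) = zpowers (lt s0 dD dW 2) := eq_of_le_of_card_ge (zpowers_le.2 (h.cen _ h9 h7)) (by
    rw [Nat.card_zpowers, Nat.card_zpowers, h.ord, orderOf_eq_prime h7 h8])
  have h15 : _root_.Subgroup.closure {lt s0 dD dW 3, lt s0 dD dW 4} ≤ _ :=
    (closure_le _).2 (Set.pair_subset (h.mem 1 (by norm_num)) (h.mem 2 (by norm_num)))
  have h16 := sup_le h15 le_normalizer
  have h17 := h.nE
  have h18 : zpowers (lt s0 dD dW 2) ≤ _ := zpowers_le.2 (h.mem 0 (by norm_num))
  have h19 := h.cT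
  have h20 := h.cR
  have h21 : Nat.card (zpowers (φ Y)) = 3 := (Nat.card_zpowers _).trans (orderOf_eq_prime h7 h8)
  rw [← h14] at h17 h18
  rw [← f.map_lt, ← f.map_lt] at h15 h16 h19 h20
  have h22 := card_sup_le (h16.trans h17)
  have h23 := card_dvd_of_le (le_sup_left : _ ≤ closure {φ (lt s dD dW 3), φ (lt s dD dW 4)} ⊔ Q ⊔ zpowers (φ Y))
  have h24 := card_dvd_of_le (le_sup_right : _ ≤ closure {φ (lt s dD dW 3), φ (lt s dD dW 4)} ⊔ Q ⊔ zpowers (φ Y))
  have h25 := Nat.card_pos (α := (closure {φ (lt s dD dW 3), φ (lt s dD dW 4)} ⊔ Q ⊔ zpowers (φ Y) : Subgroup HB))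
  have h26 := ((closure {φ (lt s dD dW 3), φ (lt s dD dW 4)} ⊔ Q ⊔ zpowers (φ Y)).subgroupOf
    (normalizer ((Q : Subgroup HB) : Set HB))).card_mul_index
  rw [Nat.card_congr (subgroupOfEquivOfLe (sup_le h16 h18)).toEquiv, h.cN] at h26
  rw [h19, h21] at h22
  rw [h19] at h23
  rw [h21] at h24
  have h27 : Nat.card (closure {φ (lt s dD dW 3), φ (lt s dD dW 4)} ⊔ Q ⊔ zpowers (φ Y) : Subgroup HB) = 2400 := by (clear * - h22 h23 h24 h25; solve | lia | omega)
  have h28 := mem_sup_right (S := _root_.Subgroup.closure {φ (lt s dD dW 3), φ (lt s dD dW 4)} ⊔ Q) (mem_zpowers (φ Y))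
  refine ⟨P, fun l hl => ?_⟩
  rw [h2, heis Nat.prime_five (by norm_num) f.ker h7 le_sup_left (sup_le h16 h18) h28 h17 (fun x h29 h30 =>
    orderOf_eq_one_iff.1 (Nat.eq_one_of_dvd_coprimes (by norm_num) (h19 ▸ orderOf_dvd_natCard _ h29)
      (h21 ▸ orderOf_dvd_natCard _ h30))) (fun t ht => ?_) f.surj (by rw [relIndex]; rw [h27] at h26; omega) (n := n⁻¹)
    (mem_comap.1 (h2 ▸ inv_mem h12)) h5 h6 (by rw [inv_inv, ← h13, h10]) (split_six f.toFr v.card
      (mem_sup_left (mem_sup_left (_root_.Subgroup.subset_closure (by simp)))) (mem_sup_left (mem_sup_left (_root_.Subgroup.subset_closure (by simp))))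
      h28 h28 (tw5 f.toFr) (tw_of_commute (Commute.refl Y))
      (nd_relIndex Nat.prime_two (le_sup_left.trans le_sup_left) (t := 5) (o := 75) h20.symm.dvd h27 (by norm_num))
      (nd_relIndex Nat.prime_three ((closure_le _).2 (Set.pair_subset h28 h28)) (t := 1) (o := 800)
        (by rw [Set.pair_eq_singleton, ← zpowers_eq_closure, h21, pow_one]) h27 (by norm_num))) hl, f.map_lt, f.map_lt, h.kT]
  rw [← SetLike.mem_coe, coe_mul_of_left_le_normalizer_right _ _ (h16.trans h17)] at ht
  obtain ⟨a, ha, b, hb, rfl⟩ := ht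
  exact ⟨a, ha, by rwa [inv_mul_cancel_left]⟩

end Cfsg.Agent.MO.S.E62N
end

-- part: MO/S/E62N/Main
section
/-!
# MO, the covers `2.²E₆(2)` and `6.²E₆(2)` : the rows from the global numbers (helper14)

* `outC2`, `noOut6`, `lk5_2`, `lf5_2`, `lk5_6` : the local side;
* `row2`, `row6`, `row_2_5`, `row_6_5` : the rows.
-/

set_option autoImplicit false

namespace Cfsg.Agent.MO.S.E62N

open Cfsg Cfsg.Lie Cfsg.Agent.MO.T Cfsg.Agent.MO.S.E62C

variable (K : Type) [Field K] [Fintype K] (hK : Fintype.card K = 4)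
include hK

theorem outC2 : OutC 2 ↥(twistedE6 K 2) := (E62C.eqv K hK).elim fun e => OutC.congr e.symm outC_HB

theorem noOut6 : NoOut 6 ↥(twistedE6 K 2) := (E62C.eqv K hK).elim fun e => NoOut.congr e.symm noOut_HB

theorem lk5_2 : LK 5 2 ↥(twistedE6 K 2) 36 := (E62C.eqv K hK).elim fun e => LK.congr e.symm five_two.1

theorem lf5_2 : LF 5 2 ↥(twistedE6 K 2) 28 := (E62C.eqv K hK).elim fun e => LF.congr e.symm five_two.2

theorem lk5_6 : LK 5 6 ↥(twistedE6 K 2) 20 := (E62C.eqv K hK).elim fun e => LK.congr e.symm five_six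

theorem row2 {p c c' : ℕ} [Fact p.Prime] (gk : GK p 2 ↥(twistedE6 K 2) c) (gf : GF p 2 ↥(twistedE6 K 2) c')
    (lk : LK p 2 ↥(twistedE6 K 2) c) (lf : LF p 2 ↥(twistedE6 K 2) c') : SmC p 2 ↥(twistedE6 K 2) :=
  smC_of_counts (outC2 K hK) gk lk gf lf

theorem row6 {p c : ℕ} [Fact p.Prime] (gk : GK p 6 ↥(twistedE6 K 2) c) (lk : LK p 6 ↥(twistedE6 K 2) c) :
    SmC p 6 ↥(twistedE6 K 2) := smC_of_kk (noOut6 K hK) gk lk

theorem row_2_5 (gk : GK 5 2 ↥(twistedE6 K 2) 36) (gf : GF 5 2 ↥(twistedE6 K 2) 28) : SmC 5 2 ↥(twistedE6 K 2) :=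
  row2 K hK gk gf (lk5_2 K hK) (lf5_2 K hK)

theorem row_6_5 (gk : GK 5 6 ↥(twistedE6 K 2) 20) : SmC 5 6 ↥(twistedE6 K 2) := row6 K hK gk (lk5_6 K hK)

end Cfsg.Agent.MO.S.E62N
end

private theorem dce_08e124e70e50 : _root_.True := by
  try have : _root_.True := by simp only [_root_.Cfsg.Agent.MO.S.E62Three.nd.eq_7]
  try have : _root_.True := by simp only [_root_.Cfsg.Agent.MO.S.E62Three.nd.eq_9]
  try have : _root_.True := by simp only [_root_.Cfsg.Agent.MO.S.E62N.dl.eq_1]
  try have : _root_.True := by simp only [_root_.Cfsg.Agent.MO.S.E62Three.nd.eq_8]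
  try have : _root_.True := by simp only [_root_.Cfsg.Agent.MO.S.E62N.dw.eq_1]
  try have : _root_.True := by simp only [_root_.Cfsg.Agent.MO.S.E62Three.nd.eq_4]
  try have : _root_.True := by simp only [_root_.Cfsg.Agent.MO.S.E62Three.nd.eq_6]
  try have : _root_.True := by simp only [_root_.Cfsg.Agent.MO.S.E62Three.nd.eq_2]
  try have : _root_.True := by simp only [_root_.Cfsg.Agent.MO.S.E62N.okW.eq_1]
  try have : _root_.True := by simp only [_root_.Cfsg.Agent.MO.S.E62N.eqv.eq_1]
  try have : _root_.True := by simp only [_root_.Cfsg.Agent.MO.S.E62N.dst.eq_1]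
  try have : _root_.True := by simp only [_root_.Cfsg.Agent.MO.S.E62N.lt.eq_1]
  try have : _root_.True := by simp only [_root_.Cfsg.Agent.MO.S.E62Three.nd.eq_1]
  try have : _root_.True := by simp only [_root_.Cfsg.Agent.MO.S.E62Three.nd.eq_5]
  try have : _root_.True := by simp only [_root_.Cfsg.Agent.MO.S.E62Three.nd.eq_3]
  exact _root_.True.intro
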